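import Cfsg.Agent.H713.Invol
import Cfsg.Agent.Blocks.SylowIn
import Cfsg.Prelude.Def_KGroupFacts
import Cfsg.Agent.Characters.Galois
import Cfsg.Agent.SmallSimple.SelfCentSum
import Cfsg.Agent.OddOrderCharacters.PF13.SumBound
import Cfsg.Agent.Prune
set_option linter.all false

section
prune_inst 0x7f00000000000000000000000000000000000000000000000000000000000000000000000000000000000000000000000000000000000000000000000000000000000000000000000000000000000000003fffffffffffffffffffffffffffbeffbdffffffff

-- part: H713/Spor/Tool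
section
set_option linter.all false
open scoped Cfsg.Agent.FastGrp

/-!
# Tools for the rows of the sporadic groups (helper713)

* `exists_orderOf_of_not_dvd` : `#G / p mod p` does not divide `p - 1`: there is an element `y` of
  order divisible by `p` and different from `p`.
* `Row.of_arith_primes` : the arithmetic criterion, the prime may depend on the index.
* `card_mulAut_dvd` : the order of `MulAut S` from the order of `Cfsg.Out S`.
* `factorization_eq_one` : the exponent of `p` in a number.
-/

set_option autoImplicit false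
set_option linter.unusedSectionVars false

namespace Cfsg.Agent.H713

open Cfsg Cfsg.Agent.Characters.Core Cfsg.Agent.Blocks.Basic Cfsg.Agent.H665.NoPQ
open Cfsg.Agent.H713.Count

universe u v

theorem factorization_eq_one {p n : ℕ} [hp : Fact p.Prime] (h1 : p ∣ n) (h2 : ¬ p * p ∣ n) :
    n.factorization p = 1 := by
  have hn : n ≠ 0 := by
    rintro rfl
    exact h2 (dvd_zero _)
  refine le_antisymm ?_ ((hp.out.dvd_iff_one_le_factorization hn).1 h1)
  by_contra hcon
  push Not at hcon
  apply h2
  have h3 : p ^ 2 ∣ n := (hp.out.pow_dvd_iff_le_factorization hn).2 hcon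
  rwa [pow_two] at h3

section prime

variable {G : Type*} [Group G] {p : ℕ} [hp : Fact p.Prime]

theorem card_fus_dvd {x : G} (hx : x ^ p = 1) : (fus (p := p) x).card ∣ p - 1 :=
  ⟨_, (card_fus_mul_card_sing hx).symm⟩

/-- If all elements of `C(x)` are of exponent `p` then it has order `p`. -/
theorem card_centralizer_of_orders' [Finite G] (hG : (Nat.card G).factorization p = 1)
    {x : G} (hx : orderOf x = p) (h : ∀ y : G, y * x = x * y → y ^ p = 1) :
    Nat.card (Subgroup.centralizer ({x} : Set G)) = p := by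
  have hxC : x ∈ Subgroup.centralizer ({x} : Set G) := Subgroup.mem_centralizer_singleton_iff.2 rfl
  have h0 : Nat.card (Subgroup.centralizer ({x} : Set G)) ≠ 0 := Nat.card_pos.ne'
  have h1 : Nat.card (Subgroup.centralizer ({x} : Set G)) ∣ Nat.card G :=
    Subgroup.card_subgroup_dvd_card _
  have h2 : p ∣ Nat.card (Subgroup.centralizer ({x} : Set G)) := by
    rw [← hx, ← Subgroup.orderOf_mk x hxC]
    exact orderOf_dvd_natCard _
  have hp' : IsPGroup p (Subgroup.centralizer ({x} : Set G)) := by
    rintro ⟨y, hy⟩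
    refine ⟨1, Subtype.ext ?_⟩
    rw [pow_one]
    exact h y (Subgroup.mem_centralizer_singleton_iff.1 hy)
  obtain ⟨n, hn⟩ := hp'.exists_card_eq
  have h5 : (Nat.card (Subgroup.centralizer ({x} : Set G))).factorization p = 1 := by
    refine le_antisymm ?_ ((hp.out.dvd_iff_one_le_factorization h0).1 h2)
    rw [← hG]
    exact (Nat.factorization_le_iff_dvd h0 Nat.card_pos.ne').2 h1 p
  rw [hn, hp.out.factorization_pow, Finsupp.single_eq_same] at h5
  rw [hn, h5, pow_one]

/-- If `C(x)` contains no element of order `p * r` then it has order `p`. -/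
theorem card_centralizer_of_orders [Finite G] (hG : (Nat.card G).factorization p = 1)
    (h : ∀ y : G, p ∣ orderOf y → orderOf y = p) {x : G} (hx : orderOf x = p) :
    Nat.card (Subgroup.centralizer ({x} : Set G)) = p := by
  have hxC : x ∈ Subgroup.centralizer ({x} : Set G) := Subgroup.mem_centralizer_singleton_iff.2 rfl
  have h0 : Nat.card (Subgroup.centralizer ({x} : Set G)) ≠ 0 := Nat.card_pos.ne'
  have h1 : Nat.card (Subgroup.centralizer ({x} : Set G)) ∣ Nat.card G :=
    Subgroup.card_subgroup_dvd_card _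
  have h2 : p ∣ Nat.card (Subgroup.centralizer ({x} : Set G)) := by
    rw [← hx, ← Subgroup.orderOf_mk x hxC]
    exact orderOf_dvd_natCard _
  -- every prime divisor is `p`
  have h3 : ∀ r : ℕ, r.Prime → r ∣ Nat.card (Subgroup.centralizer ({x} : Set G)) → r = p := by
    intro r hr hrd
    by_contra hne
    have : Fact r.Prime := ⟨hr⟩
    obtain ⟨⟨y, hy⟩, hy2⟩ := exists_prime_orderOf_dvd_card' r hrd
    rw [Subgroup.orderOf_mk] at hy2
    have hcomm : Commute x y := (Subgroup.mem_centralizer_singleton_iff.1 hy).symm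
    have hcop : Nat.Coprime (orderOf x) (orderOf y) := by
      rw [hx, hy2]
      exact (Nat.coprime_primes hp.out hr).2 (Ne.symm hne)
    have h4 := hcomm.orderOf_mul_eq_mul_orderOf_of_coprime hcop
    have h5 := h (x * y) (by rw [h4, hx]; exact dvd_mul_right _ _)
    rw [h4, hx, hy2] at h5
    have h6 : r = 1 := by
      have := hp.out.pos
      nlinarith
    exact hr.one_lt.ne' h6
  have h4 : Nat.card (Subgroup.centralizer ({x} : Set G)) =
      p ^ (Nat.card (Subgroup.centralizer ({x} : Set G))).factorization p := by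
    refine Nat.eq_pow_of_factorization_eq_single h0 ?_ |> fun h => h
    ext r
    rw [Finsupp.single_apply]
    split_ifs with hr
    · rw [← hr]
    · by_cases hrp : r.Prime
      · exact Nat.factorization_eq_zero_of_not_dvd fun hd => hr (h3 r hrp hd).symm
      · exact Nat.factorization_eq_zero_of_not_prime _ hrp
  have h5 : (Nat.card (Subgroup.centralizer ({x} : Set G))).factorization p = 1 := by
    refine le_antisymm ?_ ((hp.out.dvd_iff_one_le_factorization h0).1 h2)
    rw [← hG]
    exact (Nat.factorization_le_iff_dvd h0 Nat.card_pos.ne').2 h1 p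
  rw [h4, h5, pow_one]

/-- The arithmetic existence of an element of composite order divisible by `p`. -/
theorem exists_orderOf_of_not_dvd [Finite G] (hG : (Nat.card G).factorization p = 1)
    (hA : ¬ (Nat.card G / p) % p ∣ p - 1) : ∃ y : G, p ∣ orderOf y ∧ orderOf y ≠ p := by
  by_contra hcon
  push Not at hcon
  have hpG : p ∣ Nat.card G := by
    have := Nat.ordProj_dvd (Nat.card G) p
    rwa [hG, pow_one] at this
  obtain ⟨x, hx⟩ := exists_prime_orderOf_dvd_card' (G := G) p hpG
  have hxp : x ^ p = 1 := by rw [← hx]; exact pow_orderOf_eq_one x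
  have h1 := card_centralizer_of_orders hG hcon hx
  have h2 := card_fus_mul hG hx (c := 1) (by rw [h1, mul_one])
  rw [mul_one] at h2
  have h3 := card_fus_dvd hxp
  apply hA
  have h4 : (fus (p := p) x).card < p := by
    have := Nat.le_of_dvd (by have := hp.out.one_lt; omega) h3
    have := hp.out.one_lt
    omega
  have h5 : (Nat.card G / p) % p = (fus (p := p) x).card := by
    rw [← h2]
    exact Nat.mod_eq_of_lt h4
  rw [h5]
  exact h3

/-- Defect zero from the orders of the centralizers of involutions. -/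
theorem hasDZ_of_cards [Finite G] (L : List ℕ)
    (h : ∀ u : G, orderOf u = 2 → Nat.card (Subgroup.centralizer ({u} : Set G)) ∈ L)
    (hL : ∀ m ∈ L, ¬ p ∣ m) {s t : G} (hs : orderOf s = 2) (ht : orderOf t = 2)
    (hne : Nat.card (Subgroup.centralizer ({s} : Set G)) ≠
      Nat.card (Subgroup.centralizer ({t} : Set G))) : HasDZ p G :=
  hasDZ_of_two_classes (fun u hu => hL _ (h u hu)) hs ht
    fun hc => hne (Cfsg.Agent.Blocks.SylowIn.card_centralizer_of_isConj hc).symm

end prime

/-- A 2-central involution. -/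
theorem exists_central_involution {G : Type*} [Group G] [Finite G] (h : 2 ∣ Nat.card G) :
    ∃ z : G, orderOf z = 2 ∧ ¬ 2 ∣ (Subgroup.centralizer ({z} : Set G)).index := by
  have hf2 : Fact (Nat.Prime 2) := ⟨Nat.prime_two⟩
  obtain ⟨P⟩ : Nonempty (Sylow 2 G) := inferInstance
  have hP : IsPGroup 2 P := P.isPGroup'
  have hcard : 2 ∣ Nat.card P := by
    rw [P.card_eq_multiplicity]
    exact dvd_pow_self 2 ((Nat.prime_two.dvd_iff_one_le_factorization Nat.card_pos.ne').1 h |> fun h => by omega)
  have hnt : Nontrivial P := by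
    rw [← Finite.one_lt_card_iff_nontrivial]
    exact lt_of_lt_of_le (by norm_num) (Nat.le_of_dvd Nat.card_pos hcard)
  have hZ : Nontrivial (Subgroup.center P) := hP.center_nontrivial
  have hZp : IsPGroup 2 (Subgroup.center P) := hP.to_subgroup _
  obtain ⟨n, hn⟩ := hZp.exists_card_eq
  have h2 : 2 ∣ Nat.card (Subgroup.center P) := by
    have h1 : 1 < Nat.card (Subgroup.center P) := Finite.one_lt_card_iff_nontrivial.2 hZ
    rw [hn] at h1 ⊢
    refine dvd_pow_self 2 ?_
    rintro rfl
    simp at h1
  obtain ⟨z, hz⟩ := exists_prime_orderOf_dvd_card' 2 h2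
  refine ⟨((z : P) : G), ?_, ?_⟩
  · rw [Subgroup.orderOf_coe, Subgroup.orderOf_coe, hz]
  · have hle : (P : Subgroup G) ≤ Subgroup.centralizer ({((z : P) : G)} : Set G) := by
      intro x hx
      rw [Subgroup.mem_centralizer_singleton_iff]
      have := Subgroup.mem_center_iff.1 z.2 ⟨x, hx⟩
      exact congrArg Subtype.val this
    intro hd
    exact P.not_dvd_index (hd.trans (Subgroup.index_dvd_of_le hle))

/-- A class of involutions of even length is not the only one. -/
theorem exists_not_isConj_of_even {G : Type*} [Group G] [Finite G] {t : G} (ht : orderOf t = 2)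
    (h : 2 * Nat.card (Subgroup.centralizer ({t} : Set G)) ∣ Nat.card G) :
    ∃ z : G, orderOf z = 2 ∧ ¬ IsConj t z := by
  have h2 : 2 ∣ Nat.card G := by rw [← ht]; exact orderOf_dvd_natCard t
  obtain ⟨z, hz, hzi⟩ := exists_central_involution h2
  refine ⟨z, hz, fun hc => hzi ?_⟩
  have h1 := Cfsg.Agent.Blocks.SylowIn.card_centralizer_of_isConj hc
  have h3 := (Subgroup.centralizer ({z} : Set G)).index_mul_card
  rw [h1] at h3
  rw [← h3] at h
  exact Nat.dvd_of_mul_dvd_mul_right Nat.card_pos h

/-- A row from a character of defect zero and arithmetic. -/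
theorem Row.of_dz_of_not_dvd {S : Type v} [Group S] [Finite S] {p : ℕ} [hp : Fact p.Prime]
    (hp2 : p ≠ 2) (hS : (Nat.card S).factorization p = 1) (h : HasDZ p S)
    (hA : ¬ (Nat.card S / p) % p ∣ p - 1) : Row.{u, v} S := by
  obtain ⟨y, hy, hy'⟩ := exists_orderOf_of_not_dvd hS hA
  exact Row.of_dz hp2 h hy hy'

/-- The arithmetic criterion with the order of the automorphism group; the prime may depend on the
index. -/
theorem Row.of_arith_primes {S : Type v} [Group S] [Finite S] {o : ℕ}
    (ho : Nat.card (MulAut S) ∣ o * Nat.card S)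
    (hd : ∀ d, d ∣ o → ∃ p : ℕ, p.Prime ∧ p ≠ 2 ∧ (Nat.card S).factorization p = 1 ∧
      HasDZ p S ∧ ¬ p ∣ d ∧ ¬ p ∣ d * (Nat.card S / p) + 1) : Row.{u, v} S where
  vz := by
    obtain ⟨p, hp, hp2, hS, h, -, -⟩ := hd 1 (one_dvd _)
    have : Fact p.Prime := ⟨hp⟩
    have hodd : 2 < p := lt_of_le_of_ne hp.two_le (Ne.symm hp2)
    have hpS : p ∣ Nat.card S := by
      have := Nat.ordProj_dvd (Nat.card S) p
      rwa [hS, pow_one] at this
    obtain ⟨x, hx⟩ := exists_prime_orderOf_dvd_card' (G := S) p hpS
    exact ⟨x, by rwa [hx], HasDZ.vz h (by rw [hx])⟩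
  as := fun G _ _ f hf hn hc => by
    have h1 := (index_mul_card_dvd f hf hn hc).trans ho
    obtain ⟨p, hp, hp2, hS, h, h2, h3⟩ := hd _ (Nat.dvd_of_mul_dvd_mul_right Nat.card_pos h1)
    have : Fact p.Prime := ⟨hp⟩
    exact not_star_of_dz hp2 hS h f hf hn h2 h3

/-- The order of the automorphism group divides the product of the orders of `Out` and of the
group. -/
theorem card_mulAut_dvd {S : Type v} [Group S] [Finite S] {o : ℕ} (h : Nat.card (Cfsg.Out S) ∣ o) :
    Nat.card (MulAut S) ∣ o * Nat.card S := by
  have h1 : Nat.card (MulAut S) = (MulAut.conj : S →* MulAut S).range.index *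
      Nat.card (MulAut.conj : S →* MulAut S).range := (Subgroup.index_mul_card _).symm
  rw [h1]
  refine Nat.mul_dvd_mul h ?_
  exact Subgroup.card_range_dvd _

end Cfsg.Agent.H713
end

-- part: H710/VanCount
section
set_option linter.all false
open scoped Cfsg.Agent.FastGrp

/-!
# Vanishing of characters by counting classes (helper710)

* `exists_zero_of_card` : if `#C(w)` is smaller than the number of conjugacy classes then some
  irreducible character vanishes at `w`.
* `vz_of_card` : the version for all images under automorphisms (`H713.VZ`).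
* `le_card_conjClasses` : a lower bound of the number of classes by the orders of elements.
* `le_card_conjClasses'` : the same for an arbitrary class function; `le_card_conjClasses_two` : by
  orders and pairs of non-conjugate elements of the same order.
* `Row.of_vz` : a row of S4943 from two such elements.
-/

set_option autoImplicit false
set_option linter.unusedSectionVars false

namespace Cfsg.Agent.H710.VanCount

open Cfsg Cfsg.Agent.Characters.Core Cfsg.Agent.H713
open Cfsg.Agent.OddOrderCharacters.PF13.SumBound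

universe u v

section

variable {G : Type*} [Group G]

/-- A zero of an irreducible character is a zero for all generators of the same cyclic group. -/
theorem zero_pow [Finite G] (χ : IrrCharacter G) {w : G} (h : (χ : G → ℂ) w = 0) {k : ℕ}
    (hk : k.Coprime (orderOf w)) : (χ : G → ℂ) (w ^ k) = 0 := by
  obtain ⟨σ, hσ⟩ := Cfsg.Agent.Characters.GaloisBasic.exists_ringEquiv_pow (orderOf_pos w).ne' hk
  obtain ⟨n, ρ, -, hρ⟩ := χ.2
  have h1 := Cfsg.Agent.Characters.Galois.map_character (σ : ℂ →+* ℂ) (orderOf_pos w).ne' hσ ρ w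
    (pow_orderOf_eq_one w)
  rw [hρ, h, map_zero] at h1
  rw [← hρ] at h1 ⊢
  exact h1.symm

theorem zero_pow_iff [Finite G] (χ : IrrCharacter G) {w : G} {k : ℕ}
    (hk : k.Coprime (orderOf w)) : (χ : G → ℂ) (w ^ k) = 0 ↔ (χ : G → ℂ) w = 0 := by
  refine ⟨fun h => ?_, fun h => zero_pow χ h hk⟩
  obtain ⟨l, hl⟩ : ∃ l : ℕ, (w ^ k) ^ l = w := by
    have h1 : w ∈ Subgroup.zpowers (w ^ k) := by
      rw [mem_zpowers_pow_iff]
      exact hk
    rw [← mem_powers_iff_mem_zpowers] at h1
    exact h1
  have h2 : orderOf (w ^ k) = orderOf w := Nat.Coprime.orderOf_pow hk.symm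
  have h3 : l.Coprime (orderOf (w ^ k)) := by
    have h4 : orderOf ((w ^ k) ^ l) = orderOf (w ^ k) := by rw [hl, h2]
    rw [orderOf_pow] at h4
    have h5 : Nat.gcd (orderOf (w ^ k)) l = 1 := by
      have h6 := Nat.div_mul_cancel (Nat.gcd_dvd_left (orderOf (w ^ k)) l)
      rw [h4] at h6
      have h7 := orderOf_pos (w ^ k)
      exact Nat.eq_of_mul_eq_mul_left h7 (by rw [h6, mul_one])
    exact Nat.Coprime.symm h5
  have := zero_pow χ h h3
  rwa [hl] at this

/-- The counting criterion, for a family of automorphisms. -/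
theorem exists_zero_of_card_family [Finite G] (w : G) (A : Finset (MulAut G))
    (h : A.card * Nat.card (Subgroup.centralizer ({w} : Set G)) < Nat.card (ConjClasses G)) :
    ∃ χ : IrrCharacter G, ∀ a ∈ A, (χ : G → ℂ) (a w) = 0 := by
  classical
  by_contra hcon
  push Not at hcon
  have := Fintype.ofFinite G
  have := finite_irr (G := G)
  have := Fintype.ofFinite (IrrCharacter G)
  set X : Finset G := Finset.univ.filter fun g => ∃ m : ℕ, m.Coprime (Nat.card G) ∧ w ^ m = g with hX
  have hwX : w ∈ X := by
    rw [hX, Finset.mem_filter]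
    exact ⟨Finset.mem_univ _, 1, Nat.coprime_one_left _, pow_one w⟩
  have hXpos : 0 < X.card := Finset.card_pos.2 ⟨w, hwX⟩
  have hclosed : ∀ g ∈ X, ∀ m : ℕ, m.Coprime (Nat.card G) → g ^ m ∈ X := by
    intro g hg m hm
    rw [hX, Finset.mem_filter] at hg ⊢
    obtain ⟨-, k, hk, rfl⟩ := hg
    exact ⟨Finset.mem_univ _, k * m, Nat.Coprime.mul_left hk hm, by rw [pow_mul]⟩
  have hcent : ∀ g ∈ X, ∀ a : MulAut G, Nat.card (Subgroup.centralizer ({a g} : Set G)) =
      Nat.card (Subgroup.centralizer ({w} : Set G)) := by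
    intro g hg a
    rw [hX, Finset.mem_filter] at hg
    obtain ⟨-, k, hk, rfl⟩ := hg
    have h1 : (Subgroup.centralizer ({w ^ k} : Set G)).map (a : G →* G) =
        Subgroup.centralizer ({a (w ^ k)} : Set G) := by
      ext x
      simp only [Subgroup.mem_map, Subgroup.mem_centralizer_singleton_iff, MonoidHom.coe_coe]
      constructor
      · rintro ⟨y, hy, rfl⟩
        rw [← map_mul, hy, map_mul]
      · intro hx
        refine ⟨a.symm x, ?_, a.apply_symm_apply x⟩
        apply a.injective
        rw [map_mul, map_mul]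
        simpa using hx
    have h2 : Subgroup.centralizer ({w ^ k} : Set G) = Subgroup.centralizer ({w} : Set G) := by
      have hk' : k.Coprime (orderOf w) := hk.coprime_dvd_right (orderOf_dvd_natCard w)
      ext x
      rw [Subgroup.mem_centralizer_singleton_iff, Subgroup.mem_centralizer_singleton_iff]
      constructor
      · intro hx
        have h1 : w ∈ Subgroup.zpowers (w ^ k) := by
          rw [mem_zpowers_pow_iff]
          exact hk'
        rw [← mem_powers_iff_mem_zpowers] at h1
        obtain ⟨l, hl⟩ := h1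
        have h3 : Commute x ((w ^ k) ^ l) := Commute.pow_right (show Commute x (w ^ k) from hx) l
        have h4 : (w ^ k) ^ l = w := hl
        rw [h4] at h3
        exact h3
      · intro hx
        exact Commute.pow_right (show Commute x w from hx) k
    rw [← h1, Subgroup.card_map_of_injective (show Function.Injective (a : G →* G) from a.injective), h2]
  have key : ∀ χ : IrrCharacter G, (X.card : ℝ) ≤
      ∑ g ∈ X, ∑ a ∈ A, ‖(χ : G → ℂ) (a g)‖ ^ 2 := by
    intro χ
    refine card_le_sum_sq A (fun a g => (χ : G → ℂ) (a g)) ?_ X hclosed ?_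
    · intro a _
      have h1 : IsIrrCharacter G ((χ : G → ℂ) ∘ (a : G →* G)) :=
        isIrr_comp (a : G →* G) a.surjective χ.2
      exact isGeneralizedCharacter_def.2 ⟨_, 0, isIrr_isCharacter h1, isCharacter_zero, by rw [sub_zero]; rfl⟩
    · intro g hg
      obtain ⟨a, ha, hne⟩ := hcon χ
      refine ⟨a, ha, fun h0 => hne ?_⟩
      rw [hX, Finset.mem_filter] at hg
      obtain ⟨-, k, hk, rfl⟩ := hg
      have hk' : k.Coprime (orderOf (a w)) := by
        rw [MulEquiv.orderOf_eq]
        exact hk.coprime_dvd_right (orderOf_dvd_natCard w)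
      rw [← zero_pow_iff χ hk', ← map_pow]
      exact h0
  have h1 : (X.card : ℝ) * Nat.card (ConjClasses G) ≤
      ∑ χ : IrrCharacter G, ∑ g ∈ X, ∑ a ∈ A, ‖(χ : G → ℂ) (a g)‖ ^ 2 := by
    rw [← card_irr, Nat.card_eq_fintype_card, mul_comm, ← nsmul_eq_mul, ← Finset.card_univ,
      ← Finset.sum_const]
    exact Finset.sum_le_sum fun χ _ => key χ
  have h2 : ∑ χ : IrrCharacter G, ∑ g ∈ X, ∑ a ∈ A, ‖(χ : G → ℂ) (a g)‖ ^ 2 =
      (X.card : ℝ) * (A.card * Nat.card (Subgroup.centralizer ({w} : Set G))) := by
    rw [Finset.sum_comm]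
    have h3 : ∀ g ∈ X, ∑ χ : IrrCharacter G, ∑ a ∈ A, ‖(χ : G → ℂ) (a g)‖ ^ 2 =
        A.card * Nat.card (Subgroup.centralizer ({w} : Set G)) := by
      intro g hg
      rw [Finset.sum_comm]
      have h4 : ∀ a ∈ A, ∑ χ : IrrCharacter G, ‖(χ : G → ℂ) (a g)‖ ^ 2 =
          Nat.card (Subgroup.centralizer ({w} : Set G)) := by
        intro a _
        rw [Cfsg.Agent.SmallSimple.SelfCentSum.sum_norm_sq, hcent g hg a]
      rw [Finset.sum_congr rfl h4, Finset.sum_const, nsmul_eq_mul]
    rw [Finset.sum_congr rfl h3, Finset.sum_const, nsmul_eq_mul]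
  rw [h2] at h1
  have h3 : (Nat.card (ConjClasses G) : ℝ) ≤
      (A.card * Nat.card (Subgroup.centralizer ({w} : Set G)) : ℕ) := by
    push_cast
    exact le_of_mul_le_mul_left h1 (by exact_mod_cast hXpos)
  have h4 : Nat.card (ConjClasses G) ≤
      A.card * Nat.card (Subgroup.centralizer ({w} : Set G)) := by exact_mod_cast h3
  omega

/-- If `#C(w)` is smaller than the number of conjugacy classes then some irreducible character
vanishes at `w`. -/
theorem exists_zero_of_card [Finite G] (w : G)
    (h : Nat.card (Subgroup.centralizer ({w} : Set G)) < Nat.card (ConjClasses G)) :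
    ∃ χ : IrrCharacter G, (χ : G → ℂ) w = 0 := by
  obtain ⟨χ, hχ⟩ := exists_zero_of_card_family w {1} (by rwa [Finset.card_singleton, one_mul])
  exact ⟨χ, hχ 1 (Finset.mem_singleton_self _)⟩

/-- The counting criterion for all images under automorphisms. -/
theorem vz_of_card_family [Finite G] (w : G) (A : Finset (MulAut G))
    (h : A.card * Nat.card (Subgroup.centralizer ({w} : Set G)) < Nat.card (ConjClasses G))
    (hA : ∀ α : MulAut G, ∃ a ∈ A, ∃ k : ℕ, IsConj ((a w) ^ k) (α w)) : VZ G w := by
  obtain ⟨χ, hχ⟩ := exists_zero_of_card_family w A h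
  refine ⟨χ, fun α => ?_⟩
  obtain ⟨a, ha, k, hk⟩ := hA α
  have h1 : orderOf (a w) = orderOf ((a w) ^ k) := by
    obtain ⟨c, hc⟩ := isConj_iff.1 hk
    rw [MulEquiv.orderOf_eq, ← MulEquiv.orderOf_eq α w, ← hc]
    exact MulEquiv.orderOf_eq (MulAut.conj c) ((a w) ^ k)
  have h2 : k.Coprime (orderOf (a w)) := by
    rw [orderOf_pow] at h1
    have h6 := Nat.div_mul_cancel (Nat.gcd_dvd_left (orderOf (a w)) k)
    rw [← h1] at h6
    have h7 := orderOf_pos (a w)
    exact Nat.Coprime.symm (Nat.eq_of_mul_eq_mul_left h7 (by rw [h6, mul_one]))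
  have h3 := zero_pow χ (hχ a ha) h2
  obtain ⟨c, hc⟩ := isConj_iff.1 hk
  rw [← hc, isIrr_isClassFunction χ.2 _ c]
  exact h3

theorem vz_of_card [Finite G] (w : G)
    (h : Nat.card (Subgroup.centralizer ({w} : Set G)) < Nat.card (ConjClasses G))
    (hA : ∀ α : MulAut G, ∃ k : ℕ, IsConj (w ^ k) (α w)) : VZ G w :=
  vz_of_card_family w {1} (by rwa [Finset.card_singleton, one_mul]) fun α =>
    ⟨1, Finset.mem_singleton_self _, by simpa using hA α⟩

/-- If all automorphisms are inner. -/
theorem vz_of_card_inner [Finite G] (w : G)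
    (h : Nat.card (Subgroup.centralizer ({w} : Set G)) < Nat.card (ConjClasses G))
    (hA : ∀ α : MulAut G, α ∈ (MulAut.conj : G →* MulAut G).range) : VZ G w := by
  refine vz_of_card w h fun α => ⟨1, ?_⟩
  obtain ⟨g, rfl⟩ := hA α
  rw [pow_one]
  exact isConj_iff.2 ⟨g, rfl⟩

/-- A lower bound of the number of classes by a class function. -/
theorem le_card_conjClasses' [Finite G] {ι : Type*} (f : G → ι) (hf : ∀ x y, IsConj x y → f x = f y)
    (s : Finset ι) (hs : ∀ i ∈ s, ∃ g, f g = i) : s.card ≤ Nat.card (ConjClasses G) := by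
  classical
  choose! g hg using hs
  have hinj : Function.Injective fun i : s => ConjClasses.mk (g i) := by
    intro i j hij
    have h1 : IsConj (g i) (g j) := ConjClasses.mk_eq_mk_iff_isConj.1 hij
    apply Subtype.ext
    rw [← hg i i.2, ← hg j j.2]
    exact hf _ _ h1
  have := Nat.card_le_card_of_injective _ hinj
  rwa [Nat.card_eq_fintype_card, Fintype.card_coe] at this

theorem orderOf_eq_of_isConj {x y : G} (h : IsConj x y) : orderOf x = orderOf y := by
  obtain ⟨c, rfl⟩ := isConj_iff.1 h
  exact (MulEquiv.orderOf_eq (MulAut.conj c) x).symm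

/-- A lower bound of the number of classes by the orders of elements. -/
theorem le_card_conjClasses [Finite G] (s : Finset ℕ) (hs : ∀ n ∈ s, ∃ g : G, orderOf g = n) :
    s.card ≤ Nat.card (ConjClasses G) :=
  le_card_conjClasses' orderOf (fun _ _ => orderOf_eq_of_isConj) s hs

/-- A lower bound of the number of classes by the orders of elements, `t` being a set of orders of
non-conjugate elements. -/
theorem le_card_conjClasses_two [Finite G] (s t : Finset ℕ) (hs : ∀ n ∈ s, ∃ g : G, orderOf g = n)
    (ht : ∀ n ∈ t, ∃ g h : G, orderOf g = n ∧ orderOf h = n ∧ ¬ IsConj g h) :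
    s.card + t.card ≤ Nat.card (ConjClasses G) := by
  classical
  have h1 : ∃ g h : ℕ → G, (∀ n ∈ s, orderOf (g n) = n) ∧ (∀ n ∈ t, orderOf (h n) = n) ∧
      ∀ n ∈ t, ¬ IsConj (g n) (h n) := by
    choose! g hg using hs
    choose! g' h' h1 h2 h3 using ht
    refine ⟨fun n => if n ∈ t then g' n else g n, h', ?_, h2, ?_⟩
    · intro n hn
      by_cases hnt : n ∈ t
      · simp only [hnt, if_true]
        exact h1 n hnt
      · simp only [hnt, if_false]
        exact hg n hn
    · intro n hn
      simp only [hn, if_true]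
      exact h3 n hn
  obtain ⟨g, h, hg, hh, hgh⟩ := h1
  have hinj : Function.Injective (Sum.elim (fun i : s => ConjClasses.mk (g i))
      (fun i : t => ConjClasses.mk (h i))) := by
    rintro (⟨i, hi⟩ | ⟨i, hi⟩) (⟨j, hj⟩ | ⟨j, hj⟩) hij
    · have h2 := orderOf_eq_of_isConj (ConjClasses.mk_eq_mk_iff_isConj.1 hij)
      rw [hg i hi, hg j hj] at h2
      subst h2
      rfl
    · have h3 := ConjClasses.mk_eq_mk_iff_isConj.1 hij
      have h2 := orderOf_eq_of_isConj h3
      rw [hg i hi, hh j hj] at h2
      subst h2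
      exact absurd h3 (hgh i hj)
    · have h3 := ConjClasses.mk_eq_mk_iff_isConj.1 hij
      have h2 := orderOf_eq_of_isConj h3
      rw [hg j hj, hh i hi] at h2
      subst h2
      exact absurd h3.symm (hgh i hi)
    · have h2 := orderOf_eq_of_isConj (ConjClasses.mk_eq_mk_iff_isConj.1 hij)
      rw [hh i hi, hh j hj] at h2
      subst h2
      rfl
  have := Nat.card_le_card_of_injective _ hinj
  rwa [Nat.card_eq_fintype_card, Fintype.card_sum, Fintype.card_coe, Fintype.card_coe] at this

end

/-- A row of S4943 from two elements of different orders. -/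
theorem row_of_vz {S : Type v} [Group S] [Finite S] {x y : S} (hx : VZ S x) (hy : VZ S y)
    (hne : orderOf x ≠ orderOf y) {d : ℕ} (hd : 2 < d) (h1 : d ∣ orderOf x) (h2 : d ∣ orderOf y) :
    Row.{u, v} S where
  vz := ⟨x, hd.trans_le (Nat.le_of_dvd (orderOf_pos x) h1), hx⟩
  as := by
    intro G _ _ f hf hn _ hst
    have h3 := hst.isConj (van_of_vz f hf hn hx) (van_of_vz f hf hn hy) hd
      (by rwa [orderOf_injective f hf]) (by rwa [orderOf_injective f hf]) (orderOf_pos _)
    have h4 := orderOf_eq_of_isConj h3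
    rw [orderOf_injective f hf, orderOf_injective f hf] at h4
    exact hne h4

end Cfsg.Agent.H710.VanCount
end
end
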