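import Cfsg.Agent.Characters.DegreeBounds
import Cfsg.Agent.Characters.Brauer
import Cfsg.Agent.CharactersDeep.MackeyLinear
import Cfsg.Agent.CharDeep.PowerDegrees
import Cfsg.Agent.Blocks.Knorr
import Cfsg.Agent.LieRecognition.RankOneAbstract
import Cfsg.Agent.H665.NoPQ
set_option linter.all false

/-!
# Cuspidal characters of groups with a split BN pair of rank one (helper710)

* `exists_cuspidal` : existence of an irreducible character without fixed vectors under the unipotent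
  radical.
* `zero_of_regular` : it vanishes at all elements of the Borel subgroup without fixed points on the
  unipotent radical.
* `hasDZ` : it has defect zero for the primes all of whose elements are of that sort.
-/

set_option autoImplicit false
set_option linter.dupNamespace false

namespace Cfsg.Agent.H710.Cuspidal

open Cfsg Cfsg.Agent.Characters.Core Cfsg.Agent.Characters.DegreeBounds Module
open scoped ComplexConjugate

variable {G : Type*} [Group G]

section rep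

variable {V : Type*} [AddCommGroup V] [Module ℂ V] [FiniteDimensional ℂ V]
  (ρ : Representation ℂ G V)

/-- the sum of the operators of `U` -/
noncomputable def Z (U : Subgroup G) [Fintype U] : Module.End ℂ V := ∑ u : U, ρ u

omit [FiniteDimensional ℂ V] in
theorem rho_mul_Z (U : Subgroup G) [Fintype U] {u : G} (hu : u ∈ U) : ρ u * Z ρ U = Z ρ U := by
  unfold Z
  rw [Finset.mul_sum]
  refine Fintype.sum_equiv (Equiv.mulLeft (⟨u, hu⟩ : U)) _ _ fun x => ?_
  rw [← map_mul]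
  rfl

omit [FiniteDimensional ℂ V] in
theorem Z_mul_Z (U : Subgroup G) [Fintype U] : Z ρ U * Z ρ U = (Nat.card U : ℂ) • Z ρ U := by
  calc Z ρ U * Z ρ U = ∑ u : U, ρ u * Z ρ U := by
        conv_lhs => rw [Z, Finset.sum_mul]
        rfl
    _ = ∑ _u : U, Z ρ U := Finset.sum_congr rfl fun (u : U) _ => rho_mul_Z ρ U u.2
    _ = (Nat.card U : ℂ) • Z ρ U := by
        rw [Finset.sum_const, Finset.card_univ, Nat.card_eq_fintype_card, ← Nat.cast_smul_eq_nsmul ℂ]

theorem Z_eq_zero (U : Subgroup G) [Fintype U] (h : ∑ u : U, ρ.character u = 0) : Z ρ U = 0 := by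
  have hc : (Nat.card U : ℂ) ≠ 0 := card_ne_zero_complex
  set P : Module.End ℂ V := (Nat.card U : ℂ)⁻¹ • Z ρ U with hP
  have h1 : P * P = P := by
    rw [hP, smul_mul_smul_comm, Z_mul_Z, smul_smul]
    congr 1
    field_simp
  have h2 : LinearMap.trace ℂ V P = 0 := by
    rw [hP, map_smul, Z, map_sum]
    have : ∑ u : U, LinearMap.trace ℂ V (ρ u) = 0 := h
    rw [this, smul_zero]
  have h3 : IsIdempotentElem P := h1
  have h4 := LinearMap.IsProj.trace (LinearMap.IsIdempotentElem.isProj_range P h3)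
  rw [h2] at h4
  have h5 : finrank ℂ (LinearMap.range P) = 0 := by exact_mod_cast h4.symm
  have h6 : LinearMap.range P = ⊥ := Submodule.finrank_eq_zero.1 h5
  rw [LinearMap.range_eq_bot] at h6
  have h7 : (Nat.card U : ℂ) • P = Z ρ U := by
    rw [hP, smul_smul, mul_inv_cancel₀ hc, one_smul]
  rw [← h7, h6, smul_zero]

omit [FiniteDimensional ℂ V] in
/-- elements normalising `U` commute with the sum -/
theorem rho_comm_Z (U : Subgroup G) [Fintype U] {x : G} (hx : ∀ u, u ∈ U ↔ x * u * x⁻¹ ∈ U) :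
    ρ x * Z ρ U = Z ρ U * ρ x := by
  unfold Z
  rw [Finset.mul_sum, Finset.sum_mul]
  refine Fintype.sum_equiv
    { toFun := fun u : U => (⟨x * u * x⁻¹, (hx u).1 u.2⟩ : U)
      invFun := fun u : U => (⟨x⁻¹ * u * x, (hx _).2 (by
        have : x * (x⁻¹ * (u : G) * x) * x⁻¹ = u := by group
        rw [this]; exact u.2)⟩ : U)
      left_inv := fun u => Subtype.ext (by simp; group)
      right_inv := fun u => Subtype.ext (by simp; group) } _ _ fun u => ?_
  rw [← map_mul, ← map_mul]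
  congr 1
  simp

/-- vanishing at elements acting fixed point freely on `U` -/
theorem zero_of_regular (U : Subgroup G) [Fintype U] (h : ∑ u : U, ρ.character u = 0) {x : G}
    (hx : ∀ u, u ∈ U ↔ x * u * x⁻¹ ∈ U) (hreg : ∀ u ∈ U, x * u = u * x → u = 1) :
    ρ.character x = 0 := by
  have hZ := Z_eq_zero ρ U h
  have hinj : Function.Injective (fun u : U => (⟨x⁻¹ * (u : G)⁻¹ * x * u,
      U.mul_mem ((hx _).2 (by
        have : x * (x⁻¹ * (u : G)⁻¹ * x) * x⁻¹ = (u : G)⁻¹ := by group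
        rw [this]; exact U.inv_mem u.2)) u.2⟩ : U)) := by
    intro u v huv
    have h1 : x⁻¹ * (u : G)⁻¹ * x * u = x⁻¹ * (v : G)⁻¹ * x * v := congrArg Subtype.val huv
    have h2 : (v : G) * (u : G)⁻¹ ∈ U := U.mul_mem v.2 (U.inv_mem u.2)
    have h3 : x * ((v : G) * (u : G)⁻¹) = ((v : G) * (u : G)⁻¹) * x := by
      have h4 : (u : G)⁻¹ * x * u = (v : G)⁻¹ * x * v := by
        have := congrArg (fun z => x * z) h1
        simpa [mul_assoc] using this
      calc x * ((v : G) * (u : G)⁻¹) = v * ((v : G)⁻¹ * x * v) * (u : G)⁻¹ := by group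
        _ = v * ((u : G)⁻¹ * x * u) * (u : G)⁻¹ := by rw [h4]
        _ = ((v : G) * (u : G)⁻¹) * x := by group
    have h5 := hreg _ h2 h3
    exact (Subtype.ext (mul_inv_eq_one.1 h5)).symm
  have hbij : Function.Bijective _ := Finite.injective_iff_bijective.1 hinj
  have h1 : ∑ u : U, ρ.character (x * u) = (Nat.card U : ℂ) * ρ.character x := by
    rw [← hbij.sum_comp (fun u : U => ρ.character (x * u))]
    rw [Finset.sum_congr rfl (g := fun _ => ρ.character x)]
    · rw [Finset.sum_const, Finset.card_univ, Nat.card_eq_fintype_card, nsmul_eq_mul]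
    · intro u _
      have : x * (x⁻¹ * (u : G)⁻¹ * x * u) = (u : G)⁻¹ * x * ((u : G)⁻¹)⁻¹ := by group
      change ρ.character (x * (x⁻¹ * (u : G)⁻¹ * x * u)) = _
      rw [this, Representation.char_conj]
  have h2 : ∑ u : U, ρ.character (x * u) = LinearMap.trace ℂ V (ρ x * Z ρ U) := by
    unfold Z
    rw [Finset.mul_sum, map_sum]
    refine Finset.sum_congr rfl fun u _ => ?_
    rw [← map_mul]
    rfl
  rw [h2, hZ, mul_zero, map_zero] at h1
  have hc : (Nat.card U : ℂ) ≠ 0 := card_ne_zero_complex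
  rcases mul_eq_zero.1 h1.symm with h3 | h3
  · exact absurd h3 hc
  · exact h3

/-- The degree of an irreducible representation with fixed vectors for the radical. -/
theorem finrank_le_index [Finite G] [ρ.IsIrreducible] (H U : Subgroup G) [Fintype U]
    (hn : ∀ h ∈ H, ∀ u ∈ U, h * u * h⁻¹ ∈ U)
    (hab : ∀ h ∈ H, ∀ k ∈ H, ∃ u ∈ U, h * k = k * h * u) (hZ : Z ρ U ≠ 0) :
    finrank ℂ V ≤ H.index := by
  classical
  have hnorm : ∀ h ∈ H, ∀ u, u ∈ U ↔ h * u * h⁻¹ ∈ U := by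
    intro h hh u
    refine ⟨hn h hh u, fun h1 => ?_⟩
    have := hn h⁻¹ (H.inv_mem hh) _ h1
    have h2 : h⁻¹ * (h * u * h⁻¹) * h⁻¹⁻¹ = u := by group
    rwa [h2] at this
  have hcomm : ∀ h : H, ρ (h : G) * Z ρ U = Z ρ U * ρ (h : G) := fun h =>
    rho_comm_Z ρ U (hnorm h h.2)
  obtain ⟨v, hvW, hv0, hv⟩ := exists_common_eigenvector (fun h : H => ρ (h : G) * Z ρ U)
    (fun a b => by
      obtain ⟨u, hu, hab'⟩ := hab a a.2 b b.2
      calc ρ (a : G) * Z ρ U * (ρ (b : G) * Z ρ U) = ρ (a : G) * (Z ρ U * ρ (b : G)) * Z ρ U := by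
            simp only [mul_assoc]
        _ = ρ ((a : G) * b) * (Z ρ U * Z ρ U) := by rw [← hcomm b, map_mul]; simp only [mul_assoc]
        _ = ρ ((b : G) * a) * (ρ u * (Z ρ U * Z ρ U)) := by rw [hab', map_mul]; simp only [mul_assoc]
        _ = ρ ((b : G) * a) * (Z ρ U * Z ρ U) := by rw [← mul_assoc (ρ u), rho_mul_Z ρ U hu]
        _ = ρ (b : G) * (Z ρ U * ρ (a : G)) * Z ρ U := by
            rw [← hcomm a, map_mul]; simp only [mul_assoc]
        _ = _ := by simp only [mul_assoc])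
    (LinearMap.range (Z ρ U)) (by rw [Ne, LinearMap.range_eq_bot]; exact hZ)
    (by
      rintro h _ ⟨w, rfl⟩
      rw [hcomm h]
      exact ⟨ρ (h : G) (Z ρ U w), rfl⟩)
  have hcU : (Nat.card U : ℂ) ≠ 0 := card_ne_zero_complex
  have hZv : Z ρ U v = (Nat.card U : ℂ) • v := by
    obtain ⟨w, rfl⟩ := hvW
    rw [← Module.End.mul_apply, Z_mul_Z]
    rfl
  have hv' : ∀ h : H, ∃ c : ℂ, ρ (h : G) v = c • v := by
    intro h
    obtain ⟨c, hc⟩ := hv h
    refine ⟨(Nat.card U : ℂ)⁻¹ * c, ?_⟩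
    have h1 : ρ (h : G) (Z ρ U v) = c • v := hc
    rw [hZv, map_smul] at h1
    rw [mul_smul, ← h1, smul_smul, inv_mul_cancel₀ hcU, one_smul]
  have : Fintype (G ⧸ H) := Fintype.ofFinite _
  let b : G ⧸ H → V := fun q => ρ q.out v
  have hU : Submodule.span ℂ (Set.range b) = ⊤ := by
    apply eq_top_of_stable ρ
    · intro g u hu
      induction hu using Submodule.span_induction with
      | mem x hx =>
        obtain ⟨q, rfl⟩ := hx
        have hq : ((g * q.out : G) : G ⧸ H) = g • q := by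
          conv_rhs => rw [← q.out_eq]
          rfl
        have hmem : ((g • q).out)⁻¹ * (g * q.out) ∈ H := by
          rw [← QuotientGroup.eq, hq]
          exact (g • q).out_eq
        obtain ⟨c, hc⟩ := hv' ⟨_, hmem⟩
        have : ρ g (b q) = c • b (g • q) := by
          simp only [b]
          rw [← map_smul, ← hc, ← Module.End.mul_apply, ← Module.End.mul_apply, ← map_mul,
            ← map_mul, mul_inv_cancel_left]
        rw [this]
        exact Submodule.smul_mem _ _ (Submodule.subset_span ⟨_, rfl⟩)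
      | zero => rw [map_zero]; exact Submodule.zero_mem _
      | add x y _ _ hx hy => rw [map_add]; exact Submodule.add_mem _ hx hy
      | smul a x _ hx => rw [map_smul]; exact Submodule.smul_mem _ _ hx
    · intro h
      have h1 : b (1 : G) ∈ Submodule.span ℂ (Set.range b) := Submodule.subset_span ⟨_, rfl⟩
      rw [h, Submodule.mem_bot] at h1
      apply hv0
      have := congrArg (ρ (((1 : G) : G ⧸ H).out)⁻¹) h1
      simpa [b] using this
  rw [← finrank_top ℂ V, ← hU]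
  refine (finrank_range_le_card b).trans ?_
  rw [Subgroup.index, Nat.card_eq_fintype_card]

end rep

section count

variable [Finite G]

/-- the multiplicity of the fixed vectors is a natural number -/
theorem exists_mult (U : Subgroup G) [Fintype U] {χ : G → ℂ} (hχ : IsIrrCharacter G χ) :
    ∃ m : ℕ, ∑ u : U, χ u = (Nat.card U : ℂ) * m := by
  have h1 : IsCharacter U (fun u : U => χ u) := isCharacter_comp U.subtype (isIrr_isCharacter hχ)
  obtain ⟨m, hm⟩ := classInner_isNat h1 (isCharacter_one (G := U))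
  refine ⟨m, ?_⟩
  rw [← hm, classInner_def]
  have hc : (Nat.card U : ℂ) ≠ 0 := card_ne_zero_complex
  rw [← mul_assoc, mul_inv_cancel₀ hc, one_mul]
  refine Finset.sum_congr rfl fun u _ => ?_
  simp

theorem sum_degree_mul (U : Subgroup G) [Fintype U] [Fintype (IrrCharacter G)] :
    ∑ χ : IrrCharacter G, (χ : G → ℂ) 1 * ∑ u : U, (χ : G → ℂ) u = (Nat.card G : ℂ) := by
  have := Fintype.ofFinite G
  have hc : (Nat.card G : ℂ) ≠ 0 := card_ne_zero_complex
  have h1 : ∀ g : G, ∑ χ : IrrCharacter G, (χ : G → ℂ) 1 * (χ : G → ℂ) g =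
      (Nat.card G : ℂ) * Cfsg.Agent.CharDeep.PowerDegrees.delta G g := by
    intro g
    rw [Cfsg.Agent.CharDeep.PowerDegrees.delta_eq_sum, Finset.sum_apply, Finset.mul_sum]
    refine Finset.sum_congr rfl fun χ _ => ?_
    rw [Pi.smul_apply, smul_eq_mul]
    field_simp
  rw [Finset.sum_congr rfl fun χ _ => Finset.mul_sum _ _ _, Finset.sum_comm]
  rw [Finset.sum_congr rfl fun (u : U) _ => h1 u, Finset.sum_eq_single (1 : U)]
  · rw [OneMemClass.coe_one, Cfsg.Agent.CharDeep.PowerDegrees.delta_one, mul_one]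
  · intro u _ hu
    rw [Cfsg.Agent.CharDeep.PowerDegrees.delta_ne (fun h => hu (Subtype.ext h)), mul_zero]
  · intro h
    exact absurd (Finset.mem_univ _) h

theorem exists_of_count (H U : Subgroup G) [Fintype U]
    (hn : ∀ h ∈ H, ∀ u ∈ U, h * u * h⁻¹ ∈ U)
    (hab : ∀ h ∈ H, ∀ k ∈ H, ∃ u ∈ U, h * k = k * h * u)
    (hN : H.index = Nat.card U + 1) (hlt : Nat.card H < Nat.card U * H.index)
    {χ₀ : G → ℂ} (h0 : IsIrrCharacter G χ₀) (h01 : χ₀ 1 = H.index)
    (h0U : ∑ u : U, χ₀ u = (Nat.card U : ℂ) * 2) :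
    ∃ χ : IrrCharacter G, ∑ u : U, (χ : G → ℂ) u = 0 := by
  classical
  have := Fintype.ofFinite G
  have := finite_irr (G := G)
  have := Fintype.ofFinite (IrrCharacter G)
  by_contra hcon
  push Not at hcon
  have hcU : (Nat.card U : ℂ) ≠ 0 := card_ne_zero_complex
  choose m hm using fun χ : IrrCharacter G => exists_mult U χ.2
  have hm1 : ∀ χ, 1 ≤ m χ := by
    intro χ
    rcases Nat.eq_zero_or_pos (m χ) with h | h
    · exact absurd (by rw [hm χ, h, Nat.cast_zero, mul_zero]) (hcon χ)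
    · exact h
  set d : IrrCharacter G → ℕ := fun χ => charDegree (χ : G → ℂ) with hd
  have hd1 : ∀ χ : IrrCharacter G, (χ : G → ℂ) 1 = (d χ : ℂ) := fun χ =>
    Cfsg.Agent.Blocks.Basic.irr_one_eq_charDegree χ.2
  have hle : ∀ χ : IrrCharacter G, d χ ≤ H.index := by
    intro χ
    obtain ⟨n, ρ, hρ, h⟩ := χ.2
    have h1 : finrank ℂ (Fin n → ℂ) ≤ H.index := by
      apply finrank_le_index ρ H U hn hab
      intro hZ
      apply hcon χ
      rw [← h]
      have : ∑ u : U, ρ.character u = LinearMap.trace ℂ (Fin n → ℂ) (Z ρ U) := by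
        rw [Z, map_sum]
        rfl
      rw [this, hZ, map_zero]
    have h2 : (d χ : ℂ) = (finrank ℂ (Fin n → ℂ) : ℂ) := by
      rw [← hd1 χ, ← h, Representation.char_one]
    have h3 : d χ = finrank ℂ (Fin n → ℂ) := by exact_mod_cast h2
    rw [h3]
    exact h1
  have e1 : ∑ χ : IrrCharacter G, d χ * d χ = Nat.card G := by
    have h1 := Cfsg.Agent.CharDeep.PowerDegrees.sum_sq (G := G)
    have h2 : ((∑ χ : IrrCharacter G, d χ * d χ : ℕ) : ℂ) = (Nat.card G : ℂ) := by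
      rw [← h1]
      push_cast
      refine Finset.sum_congr rfl fun χ _ => ?_
      rw [hd1, sq]
    exact_mod_cast h2
  have e2 : Nat.card U * ∑ χ : IrrCharacter G, d χ * m χ = Nat.card G := by
    have h1 := sum_degree_mul (G := G) U
    have h2 : ((Nat.card U * ∑ χ : IrrCharacter G, d χ * m χ : ℕ) : ℂ) = (Nat.card G : ℂ) := by
      rw [← h1]
      push_cast
      rw [Finset.mul_sum]
      refine Finset.sum_congr rfl fun χ _ => ?_
      rw [hd1, hm]
      ring
    exact_mod_cast h2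
  have e3 : Nat.card G ≤ H.index * ∑ χ : IrrCharacter G, d χ := by
    rw [← e1, Finset.mul_sum]
    exact Finset.sum_le_sum fun χ _ => Nat.mul_le_mul_right _ (hle χ)
  have e4 : ∑ χ : IrrCharacter G, d χ + H.index ≤ ∑ χ : IrrCharacter G, d χ * m χ := by
    have hm0 : m ⟨χ₀, h0⟩ = 2 := by
      have h1 := hm ⟨χ₀, h0⟩
      rw [show ((⟨χ₀, h0⟩ : IrrCharacter G) : G → ℂ) = χ₀ from rfl, h0U] at h1
      have h2 := mul_left_cancel₀ hcU h1
      exact_mod_cast h2.symm
    have hd0 : d ⟨χ₀, h0⟩ = H.index := by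
      have h1 := hd1 ⟨χ₀, h0⟩
      rw [show ((⟨χ₀, h0⟩ : IrrCharacter G) : G → ℂ) = χ₀ from rfl, h01] at h1
      exact_mod_cast h1.symm
    have s1 : d ⟨χ₀, h0⟩ + ∑ χ ∈ Finset.univ.erase (⟨χ₀, h0⟩ : IrrCharacter G), d χ =
        ∑ χ : IrrCharacter G, d χ :=
      Finset.add_sum_erase Finset.univ d (Finset.mem_univ _)
    have s2 : d ⟨χ₀, h0⟩ * m ⟨χ₀, h0⟩ +
        ∑ χ ∈ Finset.univ.erase (⟨χ₀, h0⟩ : IrrCharacter G), d χ * m χ =
        ∑ χ : IrrCharacter G, d χ * m χ :=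
      Finset.add_sum_erase Finset.univ (fun χ => d χ * m χ) (Finset.mem_univ _)
    have h1 : ∑ χ ∈ Finset.univ.erase (⟨χ₀, h0⟩ : IrrCharacter G), d χ ≤
        ∑ χ ∈ Finset.univ.erase (⟨χ₀, h0⟩ : IrrCharacter G), d χ * m χ :=
      Finset.sum_le_sum fun χ _ => Nat.le_mul_of_pos_right _ (hm1 χ)
    rw [hm0, hd0] at s2
    rw [hd0] at s1
    omega
  have e5 : H.index * Nat.card H = Nat.card G := H.index_mul_card
  set S := ∑ χ : IrrCharacter G, d χ with hS
  set N := H.index with hNdef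
  have e6 : Nat.card U * (S + N) ≤ N * Nat.card H := by
    rw [e5, ← e2]
    exact Nat.mul_le_mul_left _ e4
  have e7 : N * Nat.card H ≤ N * S := by
    rw [e5]
    exact e3
  have hNpos : 0 < N := by omega
  have e8 : Nat.card H ≤ S := Nat.le_of_mul_le_mul_left e7 hNpos
  rw [hN] at e6 hlt
  nlinarith

end count

section data

open Cfsg.Agent.LieRecognition.RankOneAbstract

variable [Finite G] {H U : Subgroup G} {w : G}

omit [Finite G] in
/-- the radical is a TI set -/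
theorem mem_of_conj (D : Data H U w) {u : G} (hu : u ∈ U) (hu1 : u ≠ 1) {x : G}
    (hx : x⁻¹ * u * x ∈ H) : x ∈ H := by
  by_contra hxH
  obtain ⟨s, hs, hsx⟩ := D.bruhat x hxH
  have h1 : w⁻¹ * (s⁻¹ * u * s) * w ∈ H := by
    have h2 : w⁻¹ * (s⁻¹ * u * s) * w = ((s * w)⁻¹ * x) * (x⁻¹ * u * x) * ((s * w)⁻¹ * x)⁻¹ := by
      group
    rw [h2]
    exact H.mul_mem (H.mul_mem hsx hx) (H.inv_mem hsx)
  have h3 := D.inter _ (by
    have := D.norm s⁻¹ (H.inv_mem (D.le hs)) u hu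
    rwa [inv_inv] at this) h1
  apply hu1
  have h4 : u = s * (s⁻¹ * u * s) * s⁻¹ := by group
  rw [h4, h3]
  group

/-- **Existence of cuspidal characters.** -/
theorem exists_cuspidal (D : Data H U w) [Fintype U]
    (hab : ∀ h ∈ H, ∀ k ∈ H, ∃ u ∈ U, h * k = k * h * u) {d : G} (hd : d ∈ H)
    (hdw : w * d * w⁻¹ ∈ H) (hne : (w * d * w⁻¹) * d⁻¹ ∉ U)
    (hlt : Nat.card H < Nat.card U * (Nat.card U + 1)) :
    ∃ χ : IrrCharacter G, ∑ u : U, (χ : G → ℂ) u = 0 := by
  classical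
  have := Fintype.ofFinite G
  have hN := D.index
  -- the linear character
  let K : Subgroup H := U.subgroupOf H
  have hK : K.Normal := by
    constructor
    intro n hn g
    rw [Subgroup.mem_subgroupOf] at hn ⊢
    exact D.norm g g.2 n hn
  have hcomm : ∀ a b : H, (QuotientGroup.mk' K a) * (QuotientGroup.mk' K b) =
      (QuotientGroup.mk' K b) * (QuotientGroup.mk' K a) := by
    intro a b
    obtain ⟨u, hu, h⟩ := hab a a.2 b b.2
    rw [← map_mul, ← map_mul, eq_comm, QuotientGroup.mk'_eq_mk']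
    exact ⟨⟨u, D.le hu⟩, by rw [Subgroup.mem_subgroupOf]; exact hu, Subtype.ext h.symm⟩
  let _ : CommGroup (H ⧸ K) := { (inferInstance : Group (H ⧸ K)) with
    mul_comm := by
      intro a b
      obtain ⟨a, rfl⟩ := QuotientGroup.mk'_surjective K a
      obtain ⟨b, rfl⟩ := QuotientGroup.mk'_surjective K b
      exact hcomm a b }
  have hdA : QuotientGroup.mk' K (⟨w * d * w⁻¹, hdw⟩ * ⟨d, hd⟩⁻¹) ≠ 1 := by
    intro h0
    rw [QuotientGroup.mk'_apply, QuotientGroup.eq_one_iff, Subgroup.mem_subgroupOf] at h0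
    exact hne h0
  obtain ⟨φ, hφ⟩ := CommGroup.exists_apply_ne_one_of_hasEnoughRootsOfUnity (H ⧸ K) ℂ hdA
  set f : H →* ℂˣ := φ.comp (QuotientGroup.mk' K) with hf
  have hfU : ∀ u : H, (u : G) ∈ U → f u = 1 := by
    intro u hu
    have h1 : QuotientGroup.mk' K u = 1 := by
      rw [QuotientGroup.mk'_apply, QuotientGroup.eq_one_iff, Subgroup.mem_subgroupOf]
      exact hu
    rw [hf, MonoidHom.comp_apply]
    change φ (QuotientGroup.mk' K u) = 1
    rw [h1, map_one]
  have hfne : f ⟨w * d * w⁻¹, hdw⟩ ≠ f ⟨d, hd⟩ := by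
    intro h
    apply hφ
    have h1 : f (⟨w * d * w⁻¹, hdw⟩ * ⟨d, hd⟩⁻¹) = 1 := by
      rw [map_mul, map_inv, h, mul_inv_cancel]
    exact h1
  set χ₀ : G → ℂ := indFun H (fun t => (f t : ℂ)) with hχ₀
  have hirr : IsIrrCharacter G χ₀ := by
    apply Cfsg.Agent.CharactersDeep.MackeyLinear.isIrrCharacter_indFun
    intro x hx
    obtain ⟨s, hs, hsx⟩ := D.bruhat x hx
    set k := (s * w)⁻¹ * x with hk
    have hxe : x = s * w * k := by rw [hk]; group
    have hsH : s ∈ H := D.le hs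
    refine ⟨⟨s, hsH⟩ * ⟨w * d * w⁻¹, hdw⟩ * ⟨s, hsH⟩⁻¹, ?_, ?_⟩
    · have h1 : x⁻¹ * ((⟨s, hsH⟩ * ⟨w * d * w⁻¹, hdw⟩ * ⟨s, hsH⟩⁻¹ : H) : G) * x =
          k⁻¹ * d * k := by
        rw [hxe]
        simp only [Subgroup.coe_mul, InvMemClass.coe_inv]
        group
      rw [h1]
      exact H.mul_mem (H.mul_mem (H.inv_mem hsx) hd) hsx
    · have h1 : f (⟨s, hsH⟩ * ⟨w * d * w⁻¹, hdw⟩ * ⟨s, hsH⟩⁻¹) = f ⟨w * d * w⁻¹, hdw⟩ := by
        rw [map_mul, map_mul, map_inv, mul_comm (f ⟨s, hsH⟩), mul_inv_cancel_right]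
      rw [h1]
      have h2 : ∀ (hh : x⁻¹ * ((⟨s, hsH⟩ * ⟨w * d * w⁻¹, hdw⟩ * ⟨s, hsH⟩⁻¹ : H) : G) * x ∈ H),
          (⟨_, hh⟩ : H) = ⟨k, hsx⟩⁻¹ * ⟨d, hd⟩ * ⟨k, hsx⟩ := by
        intro hh
        apply Subtype.ext
        simp only [Subgroup.coe_mul, InvMemClass.coe_inv]
        rw [hxe]
        group
      rw [h2, map_mul, map_mul, map_inv, mul_comm (f ⟨k, hsx⟩)⁻¹, inv_mul_cancel_right]
      exact hfne
  have hval1 : χ₀ 1 = H.index := by
    have h1 : χ₀ 1 = (Nat.card H : ℂ)⁻¹ * ∑ _x : G, (1 : ℂ) := by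
      rw [hχ₀, Cfsg.Agent.OddOrderCharacters.Clifford.indFun_apply]
      congr 1
      refine Finset.sum_congr rfl fun x _ => ?_
      have h2 : x⁻¹ * 1 * x = ((1 : H) : G) := by simp
      rw [h2, Cfsg.Agent.OddOrderCharacters.Clifford.ext_apply_coe, map_one, Units.val_one]
    rw [h1, Finset.sum_const, Finset.card_univ, nsmul_eq_mul, mul_one, ← Nat.card_eq_fintype_card,
      ← H.index_mul_card]
    have hc : (Nat.card H : ℂ) ≠ 0 := card_ne_zero_complex
    push_cast
    field_simp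
  have hvalu : ∀ u : U, u ≠ 1 → χ₀ u = 1 := by
    intro u hu
    have hu1 : (u : G) ≠ 1 := fun h => hu (Subtype.ext h)
    rw [hχ₀, Cfsg.Agent.OddOrderCharacters.Clifford.indFun_apply]
    have h1 : ∑ x : G, extendByZero H (fun t => (f t : ℂ)) (x⁻¹ * u * x) =
        ∑ x : G, if x ∈ H then (1 : ℂ) else 0 := by
      refine Finset.sum_congr rfl fun x _ => ?_
      by_cases hx : x ∈ H
      · rw [if_pos hx]
        have h2 : x⁻¹ * (u : G) * x ∈ U := by
          have := D.norm x⁻¹ (H.inv_mem hx) u u.2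
          rwa [inv_inv] at this
        rw [Cfsg.Agent.OddOrderCharacters.Clifford.ext_apply_mem H _ _ (D.le h2), hfU _ h2,
          Units.val_one]
      · rw [if_neg hx, Cfsg.Agent.OddOrderCharacters.Clifford.ext_apply_not_mem]
        intro h2
        exact hx (mem_of_conj D u.2 hu1 h2)
    rw [h1, Finset.sum_ite, Finset.sum_const_zero, add_zero, Finset.sum_const, nsmul_eq_mul, mul_one]
    have h3 : (Finset.univ.filter fun x : G => x ∈ H).card = Nat.card H := by
      rw [Nat.card_eq_fintype_card, Fintype.card_subtype]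
    rw [h3]
    exact inv_mul_cancel₀ card_ne_zero_complex
  have hsum : ∑ u : U, χ₀ u = (Nat.card U : ℂ) * 2 := by
    rw [← Finset.add_sum_erase Finset.univ (fun u : U => χ₀ u) (Finset.mem_univ (1 : U))]
    rw [Finset.sum_congr rfl (g := fun _ => (1 : ℂ)) fun u hu => hvalu u (Finset.ne_of_mem_erase hu)]
    rw [OneMemClass.coe_one, hval1, hN, Finset.sum_const, Finset.card_erase_of_mem (Finset.mem_univ _),
      Finset.card_univ, ← Nat.card_eq_fintype_card, nsmul_eq_mul, mul_one]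
    have : 1 ≤ Nat.card U := Nat.card_pos
    push_cast [Nat.cast_sub this]
    ring
  exact exists_of_count H U D.norm hab hN (by rw [hN]; exact hlt) hirr hval1 hsum

end data

section dz

open Cfsg.Agent.H665.NoPQ

variable [Finite G]

/-- Defect zero. -/
theorem hasDZ_of_zero {r : ℕ} [hr : Fact r.Prime] (P : Sylow r G) (χ : IrrCharacter G)
    (h : ∀ x ∈ P, x ≠ 1 → (χ : G → ℂ) x = 0) : HasDZ r G := by
  classical
  have := Fintype.ofFinite (P : Subgroup G)
  refine ⟨χ, ?_⟩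
  obtain ⟨m, hm⟩ := exists_mult (P : Subgroup G) χ.2
  rw [Finset.sum_eq_single (1 : (P : Subgroup G))] at hm
  · rw [OneMemClass.coe_one, Cfsg.Agent.Blocks.Basic.irr_one_eq_charDegree χ.2] at hm
    have h1 : charDegree (χ : G → ℂ) = Nat.card (P : Subgroup G) * m := by exact_mod_cast hm
    refine le_antisymm ?_ ?_
    · exact (Nat.factorization_le_iff_dvd (Cfsg.Agent.Blocks.Basic.charDegree_pos χ.2).ne'
        Nat.card_pos.ne').2 (Cfsg.Agent.Blocks.Knorr.charDegree_dvd χ.2) r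
    · have h2 : r ^ (Nat.card G).factorization r ∣ charDegree (χ : G → ℂ) := by
        rw [← Sylow.card_eq_multiplicity P, h1]
        exact Dvd.intro _ rfl
      exact (hr.out.pow_dvd_iff_le_factorization
        (Cfsg.Agent.Blocks.Basic.charDegree_pos χ.2).ne').1 h2
  · intro u _ hu
    exact h u u.2 fun h => hu (Subtype.ext h)
  · intro h
    exact absurd (Finset.mem_univ _) h

end dz

section final

open Cfsg.Agent.LieRecognition.RankOneAbstract Cfsg.Agent.H665.NoPQ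

variable {H U T : Subgroup G} {w : G}

theorem exists_decomp (D : Data H U w) (hT : ∀ g, g ∈ T ↔ g ∈ H ∧ w⁻¹ * g * w ∈ H) {h : G}
    (hh : h ∈ H) : ∃ u ∈ U, ∃ t ∈ T, h = u * t := by
  have h1 : h * w ∉ H := by
    intro h2
    apply D.w_not_mem
    have := H.mul_mem (H.inv_mem hh) h2
    rwa [inv_mul_cancel_left] at this
  obtain ⟨s, hs, h2⟩ := D.bruhat _ h1
  refine ⟨s, hs, s⁻¹ * h, (hT _).2 ⟨H.mul_mem (H.inv_mem (D.le hs)) hh, ?_⟩, by group⟩
  have h3 : w⁻¹ * (s⁻¹ * h) * w = (s * w)⁻¹ * (h * w) := by group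
  rw [h3]
  exact h2

theorem card_borel (D : Data H U w) (hT : ∀ g, g ∈ T ↔ g ∈ H ∧ w⁻¹ * g * w ∈ H) :
    Nat.card H = Nat.card U * Nat.card T := by
  rw [← Nat.card_prod]
  symm
  refine Nat.card_congr (Equiv.ofBijective (fun p : U × T => (⟨(p.1 : G) * (p.2 : G),
    H.mul_mem (D.le p.1.2) ((hT _).1 p.2.2).1⟩ : H)) ⟨?_, ?_⟩)
  · rintro ⟨u, t⟩ ⟨v, s⟩ h
    have h1 : (u : G) * t = v * s := congrArg Subtype.val h
    have h2 : (v : G)⁻¹ * u = s * (t : G)⁻¹ := by
      rw [inv_mul_eq_iff_eq_mul, ← mul_assoc, ← h1, mul_inv_cancel_right]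
    have h3 : (v : G)⁻¹ * u = 1 := by
      apply D.inter _ (U.mul_mem (U.inv_mem v.2) u.2)
      rw [h2]
      exact ((hT _).1 (T.mul_mem s.2 (T.inv_mem t.2))).2
    have h4 : (u : G) = v := (inv_mul_eq_one.1 h3).symm
    have h5 : (t : G) = s := by
      rw [h4] at h1
      exact mul_left_cancel h1
    exact Prod.ext (Subtype.ext h4) (Subtype.ext h5)
  · rintro ⟨h, hh⟩
    obtain ⟨u, hu, t, ht, rfl⟩ := exists_decomp D hT hh
    exact ⟨(⟨u, hu⟩, ⟨t, ht⟩), rfl⟩

theorem comm_mod (D : Data H U w) (hT : ∀ g, g ∈ T ↔ g ∈ H ∧ w⁻¹ * g * w ∈ H)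
    (hc : ∀ a ∈ T, ∀ b ∈ T, a * b = b * a) :
    ∀ h ∈ H, ∀ k ∈ H, ∃ u ∈ U, h * k = k * h * u := by
  intro h hh k hk
  refine ⟨(k * h)⁻¹ * (h * k), ?_, by group⟩
  obtain ⟨u, hu, t, ht, rfl⟩ := exists_decomp D hT hh
  obtain ⟨v, hv, s, hs, rfl⟩ := exists_decomp D hT hk
  have hN : ∀ x ∈ H, ∀ y ∈ U, x⁻¹ * y * x ∈ U := fun x hx y hy => by
    have := D.norm x⁻¹ (H.inv_mem hx) y hy
    rwa [inv_inv] at this
  have htH := ((hT _).1 ht).1
  have hsH := ((hT _).1 hs).1
  have e : (v * s * (u * t))⁻¹ * (u * t * (v * s)) =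
      (t⁻¹ * u⁻¹ * t) * ((s * t)⁻¹ * (v⁻¹ * u) * (s * t)) * ((t⁻¹ * (s⁻¹ * (t * v * t⁻¹) * s) * t)) *
        ((t⁻¹ * s⁻¹ * t * s)) := by group
  have hts : t⁻¹ * s⁻¹ * t * s = 1 := by
    have := hc t ht s hs
    rw [mul_assoc, this]
    group
  rw [e, hts, mul_one]
  exact U.mul_mem (U.mul_mem (hN t htH _ (U.inv_mem hu))
    (hN _ (H.mul_mem hsH htH) _ (U.mul_mem (U.inv_mem hv) hu)))
    (hN t htH _ (hN s hsH _ (D.norm t htH v hv)))

variable [Finite G]

/-- **Cuspidal characters**: `T` commutative, not centralised by `w`, and `|T| ≤ |U|`. -/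
theorem exists_cuspidal' (D : Data H U w) (hw : w * w = 1)
    (hT : ∀ g, g ∈ T ↔ g ∈ H ∧ w⁻¹ * g * w ∈ H) (hc : ∀ a ∈ T, ∀ b ∈ T, a * b = b * a)
    {d : G} (hd : d ∈ T) (hwd : w * d ≠ d * w) (hlt : Nat.card T ≤ Nat.card U) :
    ∃ χ : IrrCharacter G, ∀ x ∈ H, (∀ u ∈ U, x * u = u * x → u = 1) → (χ : G → ℂ) x = 0 := by
  classical
  have := Fintype.ofFinite U
  have hwi : w⁻¹ = w := inv_eq_of_mul_eq_one_left hw
  have hd' := (hT _).1 hd
  have hdw : w * d * w⁻¹ ∈ H := by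
    rw [hwi]
    have := hd'.2
    rwa [hwi] at this
  have hdT : w * d * w⁻¹ ∈ T := by
    rw [hT]
    refine ⟨hdw, ?_⟩
    have : w⁻¹ * (w * d * w⁻¹) * w = d := by group
    rw [this]
    exact hd'.1
  obtain ⟨χ, hχ⟩ := exists_cuspidal D (comm_mod D hT hc) hd'.1 hdw (by
    intro h
    have h1 := D.inter _ h ((hT _).1 (T.mul_mem hdT (T.inv_mem hd))).2
    apply hwd
    have h2 : w * d * w⁻¹ = d := mul_inv_eq_one.1 h1
    rw [mul_inv_eq_iff_eq_mul] at h2
    exact h2) (by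
    rw [card_borel D hT]
    have : 0 < Nat.card U := Nat.card_pos
    exact Nat.mul_lt_mul_of_pos_left (by omega) this)
  refine ⟨χ, fun x hx hreg => ?_⟩
  obtain ⟨n, ρ, hρ, h⟩ := χ.2
  rw [← h] at hχ ⊢
  refine zero_of_regular ρ U hχ (fun u => ⟨fun hu => D.norm x hx u hu, fun hu => ?_⟩) hreg
  have := D.norm x⁻¹ (H.inv_mem hx) _ hu
  have h2 : x⁻¹ * (x * u * x⁻¹) * x⁻¹⁻¹ = u := by group
  rwa [h2] at this

/-- **Defect zero** for the primes `r` not dividing `|U| (|U| + 1)` all of whose elements in `T` act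
fixed point freely on `U`. -/
theorem hasDZ_of_data (D : Data H U w) (hw : w * w = 1)
    (hT : ∀ g, g ∈ T ↔ g ∈ H ∧ w⁻¹ * g * w ∈ H) (hc : ∀ a ∈ T, ∀ b ∈ T, a * b = b * a)
    {d : G} (hd : d ∈ T) (hwd : w * d ≠ d * w) (hlt : Nat.card T ≤ Nat.card U)
    {r : ℕ} [hr : Fact r.Prime] (hr1 : ¬ r ∣ Nat.card U * (Nat.card U + 1))
    (hreg : ∀ x ∈ T, x ≠ 1 → (∃ k, orderOf x = r ^ k) → ∀ u ∈ U, x * u = u * x → u = 1) :
    HasDZ r G := by
  classical
  obtain ⟨χ, hχ⟩ := exists_cuspidal' D hw hT hc hd hwd hlt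
  have hcard : Nat.card G = Nat.card U * (Nat.card U + 1) * Nat.card T := by
    rw [← H.index_mul_card, D.index, card_borel D hT]
    ring
  have hfac : (Nat.card G).factorization r = (Nat.card T).factorization r := by
    rw [hcard, Nat.factorization_mul (by
      have : 0 < Nat.card U := Nat.card_pos
      positivity) Nat.card_pos.ne', Finsupp.add_apply, Nat.factorization_eq_zero_of_not_dvd hr1, zero_add]
  let P₀ : Sylow r T := default
  have hPc : Nat.card ((P₀ : Subgroup T).map T.subtype) = r ^ (Nat.card G).factorization r := by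
    rw [Subgroup.card_map_of_injective T.subtype_injective, Sylow.card_eq_multiplicity, hfac]
  let P : Sylow r G := Sylow.ofCard _ hPc
  have hPT : ∀ x ∈ P, x ∈ T := by
    rintro x hx
    have hx' : x ∈ (P₀ : Subgroup T).map T.subtype := hx
    obtain ⟨y, -, rfl⟩ := hx'
    exact y.2
  refine hasDZ_of_zero P χ fun x hx hx1 => hχ x ((hT _).1 (hPT x hx)).1 (hreg x (hPT x hx) hx1 ?_)
  obtain ⟨k, hk⟩ := (IsPGroup.iff_orderOf.1 P.2) ⟨x, hx⟩
  exact ⟨k, by rw [← hk, Subgroup.orderOf_mk]⟩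

end final

end Cfsg.Agent.H710.Cuspidal
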