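import Mathlib.GroupTheory.Transfer
import Mathlib.GroupTheory.SchurZassenhaus
import Cfsg.Agent.Transfer.TateComplement
set_option linter.all false

/-!
# A normal complement of a Sylow normalizer (helper710)

`exists_complement` : `P` a Sylow `p`-subgroup of `G` with normalizer `N`, `R` and `M` normal
subgroups of `G` with `M ≤ R`, `R ∩ N = P` and `P' ≤ M`, `M ∩ P ≤ P'`.  Then `N` has a normal
complement in `G` (Burnside's and Tate's theorems).
-/

set_option autoImplicit false

namespace Cfsg.Agent.H710.NormalCompl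

open Subgroup

/-- The image of a self-normalizing Sylow subgroup in a quotient is self-normalizing. -/
theorem normalizer_map_le {R S : Type*} [Group R] [Finite R] [Group S] {p : ℕ} [Fact p.Prime]
    (P : Sylow p R) (f : R →* S) (hf : Function.Surjective f)
    (hN : normalizer ((P : Subgroup R) : Set R) ≤ P) :
    normalizer (((P : Subgroup R).map f : Subgroup S) : Set S) ≤ (P : Subgroup R).map f := by
  intro y hy
  obtain ⟨t, rfl⟩ := hf y
  set T : Subgroup R := ((P : Subgroup R).map f).comap f with hT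
  have ht : t ∈ normalizer (T : Set R) := by
    rw [hT, ← comap_normalizer_eq_of_surjective _ hf]
    exact hy
  have hPT : (P : Subgroup R) ≤ T := le_comap_map f _
  have hPT' : ((t • P : Sylow p R) : Subgroup R) ≤ T := by
    intro x hx
    rw [Sylow.coe_subgroup_smul, Subgroup.mem_pointwise_smul_iff_inv_smul_mem] at hx
    have h1 := hPT hx
    have h2 : t⁻¹ * x * t ∈ T := by simpa using h1
    have h3 := (mem_normalizer_iff.1 ht _).1 h2
    simpa [mul_assoc] using h3
  obtain ⟨s, hs⟩ := MulAction.exists_smul_eq T ((t • P : Sylow p R).subtype hPT') (P.subtype hPT)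
  rw [Sylow.smul_subtype] at hs
  have hs2 : (s : R) • t • P = P := Sylow.subtype_injective hs
  rw [smul_smul] at hs2
  have h4 : (s : R) * t ∈ P := hN (Sylow.smul_eq_iff_mem_normalizer.1 hs2)
  have h5 : f s ∈ (P : Subgroup R).map f := s.2
  have h6 : f (s * t) ∈ (P : Subgroup R).map f := mem_map_of_mem f h4
  have h7 : f t = (f s)⁻¹ * f (s * t) := by rw [map_mul]; group
  rw [h7]
  exact mul_mem (inv_mem h5) h6

/-- Burnside's theorem modulo a normal subgroup containing the derived subgroup of the Sylow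
subgroup. -/
theorem exists_normal_sup_inf {R : Type*} [Group R] [Finite R] {p : ℕ} [Fact p.Prime]
    (P : Sylow p R) (M : Subgroup R) [M.Normal]
    (hN : normalizer ((P : Subgroup R) : Set R) ≤ P)
    (hM : ∀ x ∈ P, ∀ y ∈ P, x * y * x⁻¹ * y⁻¹ ∈ M) :
    ∃ K : Subgroup R, K.Normal ∧ K ⊔ (P : Subgroup R) = ⊤ ∧ K ⊓ (P : Subgroup R) ≤ M := by
  let f : R →* R ⧸ M := QuotientGroup.mk' M
  have hf : Function.Surjective f := QuotientGroup.mk'_surjective M
  let Q : Sylow p (R ⧸ M) := P.mapSurjective hf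
  have hQ : (Q : Subgroup (R ⧸ M)) = (P : Subgroup R).map f := rfl
  have hQc : ∀ a ∈ (P : Subgroup R).map f, ∀ b ∈ (P : Subgroup R).map f, a * b = b * a := by
    rintro _ ⟨x, hx, rfl⟩ _ ⟨y, hy, rfl⟩
    have h1 : f (x * y * x⁻¹ * y⁻¹) = 1 := (QuotientGroup.eq_one_iff _).2 (hM x hx y hy)
    have h2 : f x * f y * (f x)⁻¹ * (f y)⁻¹ = 1 := by simpa using h1
    rw [mul_inv_eq_one, mul_inv_eq_iff_eq_mul] at h2
    exact h2
  have hnc : normalizer ((Q : Subgroup (R ⧸ M)) : Set (R ⧸ M)) ≤ centralizer (Q : Set (R ⧸ M)) := by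
    intro y hy
    have h1 : y ∈ (P : Subgroup R).map f := normalizer_map_le P f hf hN hy
    rw [mem_centralizer_iff]
    intro x hx
    exact hQc x hx y h1
  have hc := MonoidHom.ker_transferSylow_isComplement' Q hnc
  set Kb := (MonoidHom.transferSylow Q hnc).ker with hKb
  refine ⟨Kb.comap f, inferInstance, ?_, ?_⟩
  · rw [eq_top_iff]
    intro x _
    have h1 : f x ∈ (Kb : Subgroup (R ⧸ M)) ⊔ Q := by rw [hc.sup_eq_top]; exact mem_top _
    rw [hQ, mem_sup_of_normal_left] at h1
    obtain ⟨k, hk, _, ⟨y, hy, rfl⟩, he⟩ := h1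
    rw [mem_sup_of_normal_left]
    refine ⟨x * y⁻¹, ?_, y, hy, by group⟩
    show f (x * y⁻¹) ∈ Kb
    rw [map_mul, map_inv, ← he]
    simpa using hk
  · intro x hx
    have h1 : f x ∈ Kb ⊓ Q := ⟨hx.1, mem_map_of_mem f hx.2⟩
    rw [hc.disjoint.eq_bot, mem_bot] at h1
    exact (QuotientGroup.eq_one_iff _).1 h1

/-- **A normal complement of a Sylow normalizer.** -/
theorem exists_complement {G : Type*} [Group G] [Finite G] {p : ℕ} [Fact p.Prime]
    (P : Sylow p G) (R M : Subgroup G) [hRn : R.Normal] [hMn : M.Normal]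
    (hPR : (P : Subgroup G) ≤ R)
    (hRN : R ⊓ normalizer ((P : Subgroup G) : Set G) ≤ P)
    (hM : ∀ x ∈ P, ∀ y ∈ P, x * y * x⁻¹ * y⁻¹ ∈ M)
    (hMP : M ⊓ (P : Subgroup G) ≤ (commutator ↥(P : Subgroup G)).map (P : Subgroup G).subtype) :
    ∃ L : Subgroup G, L.Normal ∧ L ⊔ normalizer ((P : Subgroup G) : Set G) = ⊤ ∧
      L ⊓ normalizer ((P : Subgroup G) : Set G) = ⊥ := by
  have hpP : p.Prime := Fact.out
  set N := normalizer ((P : Subgroup G) : Set G) with hNdef
  let PR : Sylow p R := P.subtype hPR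
  have hPRmem : ∀ x : R, x ∈ PR ↔ (x : G) ∈ P := fun x => Iff.rfl
  have hN' : normalizer ((PR : Subgroup R) : Set R) ≤ PR := by
    intro x hx
    rw [mem_normalizer_iff] at hx
    have : (x : G) ∈ R ⊓ N := by
      refine ⟨x.2, ?_⟩
      show (x : G) ∈ normalizer ((P : Subgroup G) : Set G)
      rw [mem_normalizer_iff]
      intro h
      constructor
      · intro hh
        exact (hx ⟨h, hPR hh⟩).1 hh
      · intro hh
        have hhR : h ∈ R := by
          have := hRn.conj_mem _ (hPR hh) (x : G)⁻¹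
          simpa [mul_assoc] using this
        exact (hx ⟨h, hhR⟩).2 hh
    exact hRN this
  obtain ⟨K, hKn, hKs, hKi⟩ := exists_normal_sup_inf PR (M.subgroupOf R) hN' (by
    intro x hx y hy
    rw [mem_subgroupOf]
    exact hM x hx y hy)
  obtain ⟨L, hLn, hLK, hLc⟩ := Cfsg.Agent.Transfer.TateComplement.exists_normal_complement PR K hKs (by
    intro δ x hx
    have h1 : (x : R) ∈ M.subgroupOf R := hKi ⟨hx, x.2⟩
    have h2 : ((x : R) : G) ∈ (commutator ↥(P : Subgroup G)).map (P : Subgroup G).subtype :=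
      hMP ⟨h1, x.2⟩
    obtain ⟨y, hy, hyx⟩ := h2
    let e : (P : Subgroup G) →* (PR : Subgroup R) :=
      { toFun := fun z => ⟨⟨(z : G), hPR z.2⟩, z.2⟩
        map_one' := rfl
        map_mul' := fun _ _ => rfl }
    have h3 : x = e y := Subtype.ext (Subtype.ext hyx.symm)
    rw [h3]
    have h4 : y ∈ (δ.comp e).ker := Abelianization.commutator_subset_ker _ hy
    exact h4)
  -- `L` is characteristic in `R`: it consists of the elements of order prime to `p`
  have hLcard : ¬ p ∣ Nat.card L := by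
    rw [← hLc.index_eq_card]
    exact PR.not_dvd_index
  have hLmem : ∀ x : R, ¬ p ∣ orderOf x → x ∈ L := by
    intro x hx
    have h1 : ((x : R) : R ⧸ L) = 1 := by
      have hd1 : orderOf ((x : R) : R ⧸ L) ∣ orderOf x := orderOf_map_dvd (QuotientGroup.mk' L) x
      have hd2 : orderOf ((x : R) : R ⧸ L) ∣ Nat.card (R ⧸ L) := orderOf_dvd_natCard _
      have hd3 : Nat.card (R ⧸ L) = Nat.card PR := by
        show L.index = _
        exact hLc.symm.index_eq_card
      obtain ⟨k, hk⟩ := (IsPGroup.iff_card).1 PR.isPGroup'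
      rw [hd3, hk] at hd2
      obtain ⟨j, -, hj⟩ := (Nat.dvd_prime_pow hpP).1 hd2
      rcases Nat.eq_zero_or_pos j with h0 | h0
      · rw [h0, pow_zero] at hj
        exact orderOf_eq_one_iff.1 hj
      · exact absurd ((dvd_pow_self p h0.ne').trans (hj ▸ hd1)) hx
    exact (QuotientGroup.eq_one_iff _).1 h1
  have hLord : ∀ x : R, x ∈ L → ¬ p ∣ orderOf x := by
    intro x hx hd
    have h1 : orderOf (⟨x, hx⟩ : L) ∣ Nat.card L := orderOf_dvd_natCard _
    rw [← Subgroup.orderOf_coe] at h1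
    exact hLcard (hd.trans h1)
  refine ⟨L.map R.subtype, ?_, ?_, ?_⟩
  · constructor
    rintro _ ⟨x, hx, rfl⟩ g
    refine ⟨⟨g * x * g⁻¹, hRn.conj_mem _ x.2 g⟩, ?_, rfl⟩
    apply hLmem
    have h1 : orderOf (⟨g * x * g⁻¹, hRn.conj_mem _ x.2 g⟩ : R) = orderOf x := by
      rw [← Subgroup.orderOf_coe, ← Subgroup.orderOf_coe x]
      exact orderOf_injective (MulAut.conj g).toMonoidHom (MulAut.conj g).injective (x : G)
    rw [h1]
    exact hLord x hx
  · -- Frattini
    have hF := Sylow.normalizer_sup_eq_top PR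
    have hmap : (PR : Subgroup R).map R.subtype = (P : Subgroup G) := by
      ext x
      constructor
      · rintro ⟨y, hy, rfl⟩
        exact hy
      · intro hx
        exact ⟨⟨x, hPR hx⟩, hx, rfl⟩
    have hR : R ≤ L.map R.subtype ⊔ (P : Subgroup G) := by
      intro x hx
      have h1 : (⟨x, hx⟩ : R) ∈ L ⊔ (PR : Subgroup R) := by
        rw [hLc.sup_eq_top]; exact mem_top _
      rw [mem_sup_of_normal_left] at h1
      obtain ⟨l, hl, y, hy, he⟩ := h1
      have h2 : x = (l : G) * (y : G) := (congrArg Subtype.val he).symm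
      rw [h2]
      exact mul_mem ((le_sup_left : L.map R.subtype ≤ _) ⟨l, hl, rfl⟩)
        ((le_sup_right : (P : Subgroup G) ≤ _) hy)
    rw [hmap] at hF
    rw [eq_top_iff, ← hF]
    refine sup_le le_sup_right (hR.trans (sup_le le_sup_left ?_))
    exact le_normalizer.trans le_sup_right
  · rw [eq_bot_iff]
    rintro _ ⟨⟨x, hx, rfl⟩, hxN⟩
    have h1 : (x : G) ∈ P := hRN ⟨x.2, hxN⟩
    have h2 : x ∈ L ⊓ (PR : Subgroup R) := ⟨hx, h1⟩
    rw [hLc.disjoint.eq_bot, mem_bot] at h2
    rw [mem_bot, h2]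
    rfl

end Cfsg.Agent.H710.NormalCompl
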