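import Mathlib
import Cfsg.Prelude.Def_Blocks
import Cfsg.Agent.H710.NormalCompl
import Cfsg.Agent.H710.PPrimeDeg
set_option linter.all false

/-!
# Characters of degree prime to `p` of a Sylow normalizer and normal complements (helper710)

* `exists_complement_of_extends` : if all irreducible characters of degree prime to `p` of
  `N = N_G(P)` extend to `G` then `N` has a normal complement.
* `exists_retraction` : a normal complement gives a retraction `G →* N`.
-/

set_option autoImplicit false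

namespace Cfsg.Agent.H710.SylowNorm

open Cfsg Cfsg.Agent.Characters.Core Cfsg.Agent.Blocks Subgroup

universe u

variable {G : Type u} [Group G]

/-- The common kernel of a set of irreducible characters. -/
theorem exists_normal_ker [Finite G] (S : Set (IrrCharacter G)) :
    ∃ K : Subgroup G, K.Normal ∧ ∀ g : G, g ∈ K ↔ ∀ χ ∈ S, (χ : G → ℂ) g = (χ : G → ℂ) 1 := by
  classical
  have h : ∀ χ : IrrCharacter G, ∃ K : Subgroup G, K.Normal ∧
      ∀ g : G, g ∈ K ↔ (χ : G → ℂ) g = (χ : G → ℂ) 1 := by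
    rintro ⟨χ, n, ρ, hρ, rfl⟩
    refine ⟨MonoidHom.ker (ρ : G →* Module.End ℂ (Fin n → ℂ)), inferInstance, fun g => ?_⟩
    rw [MonoidHom.mem_ker]
    show ρ g = 1 ↔ ρ.character g = ρ.character 1
    rw [Representation.char_one, Cfsg.Agent.Characters.Values.character_eq_finrank_iff]
    rfl
  choose K hKn hK using h
  refine ⟨⨅ χ : S, K χ, ?_, fun g => ?_⟩
  · exact Subgroup.normal_iInf_normal fun χ => hKn χ
  · rw [Subgroup.mem_iInf]
    constructor
    · intro h χ hχ
      exact (hK χ g).1 (h ⟨χ, hχ⟩)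
    · intro h χ
      exact (hK χ g).2 (h χ χ.2)

variable {p : ℕ} [Fact p.Prime]

/-- The Sylow subgroup inside its normalizer. -/
abbrev sylN (P : Sylow p G) : Subgroup ↥(normalizer ((P : Subgroup G) : Set G)) :=
  (P : Subgroup G).subgroupOf (normalizer ((P : Subgroup G) : Set G))

theorem sylN_normal (P : Sylow p G) : (sylN P).Normal := Subgroup.normal_in_normalizer

theorem sylN_isPGroup (P : Sylow p G) : IsPGroup p (sylN P) :=
  P.2.comap_of_injective _ (Subgroup.subtype_injective _)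

theorem sylN_index [Finite G] (P : Sylow p G) : ¬ p ∣ (sylN P).index := by
  intro h
  exact P.not_dvd_index (h.trans (Subgroup.relIndex_dvd_index_of_le le_normalizer))

theorem commutator_map_subtype {H : Type*} [Group H] (Q : Subgroup H) :
    (commutator ↥Q).map Q.subtype = ⁅Q, Q⁆ := by
  rw [_root_.commutator_def, Subgroup.map_commutator, ← MonoidHom.range_eq_map,
    Subgroup.range_subtype]

theorem sylN_map (P : Sylow p G) :
    (sylN P).map (normalizer ((P : Subgroup G) : Set G)).subtype = (P : Subgroup G) := by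
  rw [Subgroup.subgroupOf_map_subtype]
  exact inf_of_le_left le_normalizer

theorem derived_map (P : Sylow p G) :
    (⁅sylN P, sylN P⁆).map (normalizer ((P : Subgroup G) : Set G)).subtype =
      (commutator ↥(P : Subgroup G)).map (P : Subgroup G).subtype := by
  rw [Subgroup.map_commutator, sylN_map, commutator_map_subtype]

theorem derived_le (P : Sylow p G) : ⁅sylN P, sylN P⁆ ≤ sylN P := by
  have := sylN_normal P
  exact Subgroup.commutator_le_left _ _

/-- Degrees prime to `p` in the Sylow normalizer. -/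
theorem not_dvd_iff [Finite G] (P : Sylow p G)
    (θ : IrrCharacter ↥(normalizer ((P : Subgroup G) : Set G))) :
    ¬ p ∣ charDegree (θ : ↥(normalizer ((P : Subgroup G) : Set G)) → ℂ) ↔
      ∀ x ∈ ⁅sylN P, sylN P⁆,
        (θ : ↥(normalizer ((P : Subgroup G) : Set G)) → ℂ) x =
        (θ : ↥(normalizer ((P : Subgroup G) : Set G)) → ℂ) 1 := by
  have := sylN_normal P
  constructor
  · intro h
    exact PPrimeDeg.apply_eq_of_not_dvd (sylN P) (sylN_isPGroup P) ⁅sylN P, sylN P⁆
      (commutator_map_subtype (sylN P)).ge θ.2 h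
  · intro h
    exact PPrimeDeg.not_dvd_of_apply_eq (sylN P) (sylN_index P) ⁅sylN P, sylN P⁆
      (fun a ha b hb => Subgroup.commutator_mem_commutator ha hb) (derived_le P) θ.2 h

/-- If all irreducible characters of degree prime to `p` of the Sylow normalizer extend then the
Sylow normalizer has a normal complement. -/
theorem exists_complement_of_extends [Finite G] (P : Sylow p G)
    (h : ∀ θ : IrrCharacter ↥(normalizer ((P : Subgroup G) : Set G)),
      ¬ p ∣ charDegree (θ : ↥(normalizer ((P : Subgroup G) : Set G)) → ℂ) →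
        ∃ χ : IrrCharacter G, ∀ x : ↥(normalizer ((P : Subgroup G) : Set G)),
          (χ : G → ℂ) x = (θ : ↥(normalizer ((P : Subgroup G) : Set G)) → ℂ) x) :
    ∃ K : Subgroup G, K.Normal ∧ K ⊔ normalizer ((P : Subgroup G) : Set G) = ⊤ ∧
      K ⊓ normalizer ((P : Subgroup G) : Set G) = ⊥ := by
  set N := normalizer ((P : Subgroup G) : Set G) with hN
  have hQn := sylN_normal P
  have hPN : (P : Subgroup G) ≤ N := le_normalizer
  obtain ⟨R, hRn, hR⟩ := exists_normal_ker {χ : IrrCharacter G | ∃ θ : IrrCharacter N,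
    (∀ x ∈ sylN P, (θ : N → ℂ) x = (θ : N → ℂ) 1) ∧ ∀ x : N, (χ : G → ℂ) x = (θ : N → ℂ) x}
  obtain ⟨M, hMn, hM⟩ := exists_normal_ker {χ : IrrCharacter G | ∃ θ : IrrCharacter N,
    ¬ p ∣ charDegree (θ : N → ℂ) ∧ ∀ x : N, (χ : G → ℂ) x = (θ : N → ℂ) x}
  refine NormalCompl.exists_complement P R M ?_ ?_ ?_ ?_
  · intro x hx
    rw [hR]
    rintro χ ⟨θ, hθ, hχθ⟩
    have h1 := hχθ ⟨x, hPN hx⟩
    have h2 := hχθ 1
    have h3 := hθ ⟨x, hPN hx⟩ hx
    rw [h3, ← h2] at h1
    exact h1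
  · rintro x ⟨hxR, hxN⟩
    by_contra hx
    have hx' : (⟨x, hxN⟩ : N) ∉ sylN P := fun h => hx h
    obtain ⟨θ, hθ, hne⟩ := PPrimeDeg.exists_irr_apply_ne (sylN P) hx'
    obtain ⟨χ, hχ⟩ := h θ ((not_dvd_iff P θ).2 fun y hy => hθ y (derived_le P hy))
    apply hne
    rw [← hχ, ← hχ]
    exact (hR x).1 hxR χ ⟨θ, hθ, hχ⟩
  · intro x hx y hy
    rw [hM]
    rintro χ ⟨θ, hθ, hχθ⟩
    have h0 : (⟨x, hPN hx⟩ : N) * ⟨y, hPN hy⟩ * (⟨x, hPN hx⟩ : N)⁻¹ * (⟨y, hPN hy⟩ : N)⁻¹ ∈
        ⁅sylN P, sylN P⁆ := Subgroup.commutator_mem_commutator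
          (show (⟨x, hPN hx⟩ : N) ∈ sylN P from hx) (show (⟨y, hPN hy⟩ : N) ∈ sylN P from hy)
    have h1 := (not_dvd_iff P θ).1 hθ _ h0
    rw [← hχθ, ← hχθ] at h1
    exact h1
  · rintro x ⟨hxM, hxP⟩
    rw [← derived_map P]
    by_contra hx
    have hx' : (⟨x, hPN hxP⟩ : N) ∉ ⁅sylN P, sylN P⁆ := fun h => hx ⟨_, h, rfl⟩
    obtain ⟨θ, hθ, hne⟩ := PPrimeDeg.exists_irr_apply_ne ⁅sylN P, sylN P⁆ hx'
    have hd := (not_dvd_iff P θ).2 hθ
    obtain ⟨χ, hχ⟩ := h θ hd
    apply hne
    rw [← hχ, ← hχ]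
    exact (hM x).1 hxM χ ⟨θ, hd, hχ⟩

/-- A normal complement gives a retraction. -/
theorem exists_retraction (K N : Subgroup G) [hK : K.Normal] (h1 : K ⊔ N = ⊤) (h2 : K ⊓ N = ⊥) :
    ∃ π : G →* N, (∀ x : N, π x = x) ∧ π.ker = K := by
  let f : N →* G ⧸ K := (QuotientGroup.mk' K).comp N.subtype
  have hinj : Function.Injective f := by
    rw [injective_iff_map_eq_one]
    intro x hx
    have h3 : (x : G) ∈ K := (QuotientGroup.eq_one_iff (x : G)).1 hx
    have h4 : (x : G) ∈ K ⊓ N := ⟨h3, x.2⟩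
    rw [h2, Subgroup.mem_bot] at h4
    exact Subtype.ext h4
  have hsurj : Function.Surjective f := by
    intro y
    obtain ⟨g, rfl⟩ := QuotientGroup.mk'_surjective K y
    have h3 : g ∈ K ⊔ N := by rw [h1]; exact mem_top g
    rw [mem_sup_of_normal_left] at h3
    obtain ⟨k, hk, n, hn, rfl⟩ := h3
    refine ⟨⟨n, hn⟩, ?_⟩
    rw [map_mul]
    have h4 : QuotientGroup.mk' K k = 1 := (QuotientGroup.eq_one_iff k).2 hk
    rw [h4, one_mul]
    rfl
  let e : N ≃* G ⧸ K := MulEquiv.ofBijective f ⟨hinj, hsurj⟩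
  refine ⟨(e.symm : G ⧸ K →* N).comp (QuotientGroup.mk' K), fun x => ?_, ?_⟩
  · show e.symm (QuotientGroup.mk' K (x : G)) = x
    rw [MulEquiv.symm_apply_eq]
    rfl
  · ext g
    rw [MonoidHom.mem_ker]
    show e.symm (QuotientGroup.mk' K g) = 1 ↔ _
    rw [MulEquiv.symm_apply_eq, map_one]
    exact QuotientGroup.eq_one_iff g

end Cfsg.Agent.H710.SylowNorm
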