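import Cfsg.Agent.H670.Gelfand
import Cfsg.Agent.Prune
set_option linter.all false
prune_inst 0x7f00000000000000000000000000000000000000000000000000000000000000000000000000000000000000000000000000000000000000000000000000000000000000000000000000000000000000003ffffffffffffffffffff7ffffffbeffbdf7ffffff
open scoped Cfsg.Agent.FastGrp

/-!
# Gelfand's trick, with a permutation of the subgroup (helper710)

As `H670.Gelfand.mult_le_one`, but `τ (i a) = i (β a)` where `ψ (β a) = ψ a`.
-/

set_option autoImplicit false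

open Cfsg
open scoped ComplexConjugate

namespace Cfsg.Agent.H710.GelfandBeta

open Cfsg.Agent.Characters.Core Module Cfsg.Agent.H670.Gelfand

universe u v

variable {G : Type u} [Group G] [Fintype G] {A : Type v} [Group A] [Fintype A]

/-- **Gelfand's trick.** -/
theorem mult_le_one (i : A →* G) (ψ : A →* ℂˣ) (τ : G → G) (β : A ≃ A)
    (hτ : ∀ x y, τ (x * y) = τ y * τ x) (hτA : ∀ a, τ (i a) = i (β a)) (hβ : ∀ a, ψ (β a) = ψ a)
    (h : ∀ g : G, (∃ a b : A, τ g = i a * g * i b ∧ ψ a * ψ b = 1) ∨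
      (∃ a b : A, i a * g = g * i b ∧ ψ a ≠ ψ b))
    {χ : G → ℂ} (hχ : IsIrrCharacter G χ) :
    classInner (χ ∘ i) (fun a => (ψ a : ℂ)) = 0 ∨
      classInner (χ ∘ i) (fun a => (ψ a : ℂ)) = 1 := by
  classical
  obtain ⟨n, ρ, hρ, rfl⟩ := hχ
  set E := idem i ψ ρ with hE
  set m := LinearMap.trace ℂ (Fin n → ℂ) E with hm
  rw [← trace_idem, ← hE, ← hm]
  have hEE : E * E = E := idem_mul_idem i ψ ρ
  -- the operators `A_x = E ρ(x) E`
  set Ax : G → Module.End ℂ (Fin n → ℂ) := fun x => E * ρ x * E with hAx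
  have hprod : ∀ x y : G, Ax x * Ax y =
      (Fintype.card A : ℂ)⁻¹ • ∑ a : A, ((ψ a⁻¹ : ℂˣ) : ℂ) • Ax (x * i a * y) := by
    intro x y
    have h1 : Ax x * Ax y = E * ρ x * E * (ρ y * E) := by
      simp only [hAx]
      calc E * ρ x * E * (E * ρ y * E) = E * ρ x * (E * E) * (ρ y * E) := by noncomm_ring
        _ = E * ρ x * E * (ρ y * E) := by rw [hEE]
    rw [h1]
    have h2 : E * ρ x * E * (ρ y * E) = (Fintype.card A : ℂ)⁻¹ • ∑ a : A,
        ((ψ a⁻¹ : ℂˣ) : ℂ) • (E * ρ x * ρ (i a) * (ρ y * E)) := by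
      conv_lhs => rw [hE, idem_def i ψ ρ, ← idem_def i ψ ρ, ← hE]
      have h3 : E * ρ x * E = E * ρ x * ((Fintype.card A : ℂ)⁻¹ •
          ∑ a : A, ((ψ a⁻¹ : ℂˣ) : ℂ) • ρ (i a)) := by
        rw [← idem_def i ψ ρ]
      rw [h3, mul_smul_comm, smul_mul_assoc, Finset.mul_sum, Finset.sum_mul]
      congr 1
      refine Finset.sum_congr rfl fun a _ => ?_
      rw [mul_smul_comm, smul_mul_assoc]
    rw [h2]
    congr 1
    refine Finset.sum_congr rfl fun a _ => ?_
    congr 1
    simp only [hAx, map_mul]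
    noncomm_ring
  have hL : ∀ (a : A) (x : G), Ax (i a * x) = ((ψ a : ℂˣ) : ℂ) • Ax x := by
    intro a x
    simp only [hAx, map_mul]
    rw [← mul_assoc E, hE, idem_mul_rho, ← hE, smul_mul_assoc, smul_mul_assoc]
  have hR : ∀ (a : A) (x : G), Ax (x * i a) = ((ψ a : ℂˣ) : ℂ) • Ax x := by
    intro a x
    simp only [hAx, map_mul]
    rw [mul_assoc, mul_assoc, hE, rho_mul_idem, ← hE, mul_smul_comm, mul_smul_comm, mul_assoc]
  have hτx : ∀ x : G, Ax (τ x) = Ax x := by
    intro x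
    rcases h x with ⟨a, b, h1, h2⟩ | ⟨a, b, h1, h2⟩
    · rw [h1, hR, hL, smul_smul, ← Units.val_mul, mul_comm (ψ b), h2, Units.val_one, one_smul]
    · have h3 : Ax x = 0 := by
        have h4 : ((ψ a : ℂˣ) : ℂ) • Ax x = ((ψ b : ℂˣ) : ℂ) • Ax x := by
          rw [← hL, ← hR, h1]
        exact eq_zero_of_smul_eq (fun h6 => h2 (Units.ext h6)) h4
      have h1' : τ x * i (β a) = i (β b) * τ x := by
        have := congrArg τ h1
        rwa [hτ, hτ, hτA, hτA] at this
      have h3' : Ax (τ x) = 0 := by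
        have h4 : ((ψ a : ℂˣ) : ℂ) • Ax (τ x) = ((ψ b : ℂˣ) : ℂ) • Ax (τ x) := by
          rw [← hβ a, ← hR, h1', hL, hβ]
        exact eq_zero_of_smul_eq (fun h6 => h2 (Units.ext h6)) h4
      rw [h3, h3']
  have hcomm : ∀ x y : G, Ax x * Ax y = Ax y * Ax x := by
    intro x y
    have e1 : Ax x * Ax y = Ax (τ x) * Ax (τ y) := by rw [hτx, hτx]
    rw [e1, hprod (τ x) (τ y), hprod y x]
    congr 1
    symm
    refine Fintype.sum_equiv β _ _ fun a => ?_
    rw [map_inv, map_inv, hβ]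
    congr 1
    rw [← hτx (y * i a * x), hτ, hτ, hτA, ← mul_assoc]
  -- `m • A_y = tr (A_y) • E`
  by_cases hm0 : m = 0
  · left; exact hm0
  right
  have hn : (finrank ℂ (Fin n → ℂ) : ℂ) ≠ 0 := by
    have := Characters.Ito.finrank_pos_of_irreducible ρ
    exact_mod_cast this.ne'
  have hscal : ∀ y : G, Ax y = (LinearMap.trace ℂ (Fin n → ℂ) (Ax y) / m) • E := by
    intro y
    have h1 := Characters.Ito.sum_conj ρ (Ax y)
    have h2 := Characters.Ito.sum_conj ρ E
    have h3 : E * (∑ g : G, ρ g * Ax y * ρ g⁻¹) * E = Ax y * (E * (∑ g : G, ρ g * E * ρ g⁻¹) * E) := by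
      rw [Finset.mul_sum, Finset.sum_mul, Finset.mul_sum, Finset.sum_mul, Finset.mul_sum]
      refine Finset.sum_congr rfl fun g _ => ?_
      have h4 : E * (ρ g * Ax y * ρ g⁻¹) * E = Ax g * Ax y * Ax g⁻¹ := by
        simp only [hAx]
        calc E * (ρ g * (E * ρ y * E) * ρ g⁻¹) * E = E * ρ g * E * ρ y * E * ρ g⁻¹ * E := by noncomm_ring
          _ = E * ρ g * (E * E) * ρ y * (E * E) * ρ g⁻¹ * E := by rw [hEE]
          _ = _ := by noncomm_ring
      have h5 : Ax y * (E * (ρ g * E * ρ g⁻¹) * E) = Ax y * (Ax g * Ax g⁻¹) := by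
        simp only [hAx]
        calc E * ρ y * E * (E * (ρ g * E * ρ g⁻¹) * E) =
            E * ρ y * E * (E * ρ g * E * ρ g⁻¹ * E) := by noncomm_ring
          _ = E * ρ y * E * (E * ρ g * (E * E) * ρ g⁻¹ * E) := by rw [hEE]
          _ = _ := by noncomm_ring
      rw [h4, h5, hcomm g y, mul_assoc]
    rw [h1, h2] at h3
    simp only [mul_smul_comm, smul_mul_assoc, mul_one, hEE] at h3
    have h6 : Ax y * E = Ax y := by
      simp only [hAx]
      rw [mul_assoc, hEE]
    rw [h6, ← hm] at h3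
    have hG : (Fintype.card G : ℂ) ≠ 0 := Nat.cast_ne_zero.2 Fintype.card_ne_zero
    have h8 : LinearMap.trace ℂ (Fin n → ℂ) (Ax y) • E = m • Ax y := by
      have h9 := congrArg (fun X => ((finrank ℂ (Fin n → ℂ) : ℂ) / (Fintype.card G : ℂ)) • X) h3
      simp only [smul_smul] at h9
      have e1 : (finrank ℂ (Fin n → ℂ) : ℂ) / (Fintype.card G : ℂ) *
          ((Fintype.card G : ℂ) * LinearMap.trace ℂ (Fin n → ℂ) (Ax y) / (finrank ℂ (Fin n → ℂ) : ℂ)) =
          LinearMap.trace ℂ (Fin n → ℂ) (Ax y) := by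
        field_simp
      have e2 : (finrank ℂ (Fin n → ℂ) : ℂ) / (Fintype.card G : ℂ) *
          ((Fintype.card G : ℂ) * m / (finrank ℂ (Fin n → ℂ) : ℂ)) = m := by
        field_simp
      rw [e1, e2] at h9
      exact h9
    rw [div_eq_inv_mul, mul_smul, h8, smul_smul, inv_mul_cancel₀ hm0, one_smul]
  -- a nonzero vector of the range
  have hE0 : E ≠ 0 := by
    intro h0
    apply hm0
    rw [hm, h0, map_zero]
  obtain ⟨v, hv⟩ : ∃ v, E v ≠ 0 := by
    by_contra hcon
    push Not at hcon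
    exact hE0 (LinearMap.ext hcon)
  have hEv : E (E v) = E v := by
    have := congrArg (fun X : Module.End ℂ (Fin n → ℂ) => X v) hEE
    exact this
  let S : Subrepresentation ρ :=
    { toSubmodule := ⨅ g : G, (Submodule.span ℂ {E v}).comap (E * ρ g)
      apply_mem_toSubmodule := by
        intro h w hw
        rw [Submodule.mem_iInf] at hw ⊢
        intro g
        have h1 := hw (g * h)
        rw [Submodule.mem_comap] at h1 ⊢
        rw [map_mul] at h1
        exact h1 }
  have hvS : E v ∈ S.toSubmodule := by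
    show E v ∈ ⨅ g : G, (Submodule.span ℂ {E v}).comap (E * ρ g)
    rw [Submodule.mem_iInf]
    intro g
    rw [Submodule.mem_comap]
    have h1 : (E * ρ g) (E v) = (Ax g) v := rfl
    rw [h1, hscal g]
    exact Submodule.smul_mem _ _ (Submodule.mem_span_singleton_self _)
  have hSne : S ≠ ⊥ := by
    intro h0
    rw [h0] at hvS
    exact hv ((Submodule.mem_bot ℂ).1 hvS)
  have hStop : S = ⊤ := (hρ.eq_bot_or_eq_top S).resolve_left hSne
  have hrange : ∀ w, E w ∈ Submodule.span ℂ {E v} := by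
    intro w
    have hw : w ∈ S.toSubmodule := by
      rw [hStop]
      exact Submodule.mem_top
    have h1 : w ∈ ⨅ g : G, (Submodule.span ℂ {E v}).comap (E * ρ g) := hw
    rw [Submodule.mem_iInf] at h1
    have h2 := h1 1
    rw [Submodule.mem_comap, map_one, mul_one] at h2
    exact h2
  have hproj : LinearMap.IsProj (Submodule.span ℂ {E v}) E :=
    ⟨hrange, by
      intro w hw
      obtain ⟨c, rfl⟩ := Submodule.mem_span_singleton.1 hw
      rw [map_smul, hEv]⟩
  rw [hm, hproj.trace, finrank_span_singleton hv, Nat.cast_one]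

end Cfsg.Agent.H710.GelfandBeta
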