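import Cfsg.Agent.AschCrit.PSUTorus
import Cfsg.Agent.H710.Cuspidal
import Cfsg.Agent.H713.Invol
import Cfsg.Agent.FastGrp
import Cfsg.Agent.Prune
set_option linter.all false
prune_inst 0x7f00000000000000000000000000000000000000000000000000000000000000000000000000000000000000000000000000000000000000000000000000000000000000000000000000000000000000003fffffffffffffffffffffffffffbeffbdffffffff
open scoped Cfsg.Agent.FastGrp

/-!
# The groups `PSU(3, q)`, `q` a power of two (helper710)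

* `hasDZ` : characters of `r`-defect zero for the primes `r` dividing `q - 1`.
* `row` : the row of S4943 for `q ≥ 4`.
-/

set_option autoImplicit false
set_option linter.dupNamespace false

namespace Cfsg.Agent.H710.UThree

open Matrix Cfsg Cfsg.Agent.LieRecognition Cfsg.Agent.LieRecognition.HermHeis
  Cfsg.Agent.LieRecognition.PSUThreeSylow Cfsg.Agent.LieRecognition.RankOneAbstract
  Cfsg.Agent.SuzukiRankOne Cfsg.Agent.SuzukiRankOne.PSUModel Cfsg.Agent.AschCrit.PSUTorus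
  Cfsg.Agent.H710.Cuspidal Cfsg.Agent.H713 Cfsg.Agent.H665.NoPQ

universe u v

variable {F : Type u} [Field F] [CharP F 2] {σ : F →+* F} [hσ : Fact (∀ x, σ (σ x) = x)]

/-- The element `diag(α, σ α / α, (σ α)⁻¹)`. -/
def tel (σ : F →+* F) [hσ : Fact (∀ x, σ (σ x) = x)] (α : F) (h0 : α ≠ 0) : SUJ σ :=
  ⟨⟨!![α, 0, 0; 0, σ α / α, 0; 0, 0, (σ α)⁻¹], by
    have h1 : σ α ≠ 0 := (map_ne_zero σ).mpr h0
    rw [Matrix.det_fin_three]
    simp only [_root_.Fin.isValue, _root_.Matrix.of_apply, _root_.Matrix.cons_val', _root_.Matrix.cons_val_zero, _root_.Matrix.cons_val_fin_one, _root_.Matrix.cons_val_one, _root_.Matrix.cons_val, _root_.MulZeroClass.mul_zero, _root_.sub_zero, _root_.MulZeroClass.zero_mul, _root_.add_zero]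
    field_simp⟩, by
    have h1 : σ α ≠ 0 := (map_ne_zero σ).mpr h0
    change (!![α, 0, 0; 0, σ α / α, 0; 0, 0, (σ α)⁻¹] : Matrix (Fin 3) (Fin 3) F)ᵀ * Jm F *
      (!![α, 0, 0; 0, σ α / α, 0; 0, 0, (σ α)⁻¹] : Matrix (Fin 3) (Fin 3) F).map σ = Jm F
    ext i j
    (revert i j; simp only [Jm, Matrix.mul_apply, Fin.sum_univ_three, Matrix.transpose_apply, h1, h0, hσ.out, _root_.Fin.forall_fin_succ, _root_.Matrix.of_apply, _root_.Matrix.cons_val', _root_.Matrix.cons_val_fin_one, Fin.isValue, _root_.Matrix.cons_val_zero, _root_.Matrix.cons_val_one, _root_.Matrix.cons_val, _root_.Matrix.map_apply, _root_.MulZeroClass.mul_zero, _root_.add_zero, _root_.mul_one, _root_.zero_add, _root_.map_zero, _root_.Matrix.cons_val_succ, _root_.map_div₀, _root_.map_inv₀, _root_.forall_const, _root_.MulZeroClass.zero_mul, _root_.ne_eq, _root_.not_false_eq_true, _root_.mul_inv_cancel₀, _root_.and_self, _root_.div_mul_div_cancel₀', _root_.div_self,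 _root_.inv_mul_cancel₀, _root_.implies_true])⟩

omit [CharP F 2] in
theorem tel_val (α : F) (h0 : α ≠ 0) :
    (tel σ α h0).1.1 = !![α, 0, 0; 0, σ α / α, 0; 0, 0, (σ α)⁻¹] := rfl

theorem tel_mem (α : F) (h0 : α ≠ 0) : tel σ α h0 ∈ torus σ := by
  rw [mem_torus, wel_inv]
  constructor
  · rw [mem_borel, tel_val]
    simp
  · rw [mem_borel, coe_mul_SUJ, coe_mul_SUJ, wel_val, (mul_Jm_apply _ 1).1, (mul_Jm_apply _ 2).1,
      (Jm_mul_apply _ 2).2.1, (Jm_mul_apply _ 2).2.2, tel_val]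
    simp

/-- central elements of the torus act trivially -/
theorem scal_eq_of_center {g : SUJ σ} {α : F} {h0 : α ≠ 0} (hg : g ∈ Subgroup.center (SUJ σ))
    (h : ∀ x : Heis σ, g * emb σ x = emb σ (scal α h0 x) * g) (x : Heis σ) : scal α h0 x = x := by
  have h1 := h x
  rw [← Subgroup.mem_center_iff.1 hg (emb σ x)] at h1
  exact (emb_injective (mul_right_cancel h1)).symm

theorem norm_eq_of_scal {α : F} {h0 : α ≠ 0} {x : Heis σ} (hx : x ≠ 1) (h : scal α h0 x = x) :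
    α * σ α = 1 := by
  have h1 : α * σ α * x.b = x.b := congrArg Heis.b h
  have h2 := b_ne_zero hx
  exact mul_right_cancel₀ h2 (h1.trans (one_mul _).symm)

theorem cube_eq_of_scal {α : F} {h0 : α ≠ 0} {x : Heis σ} (hx : x.a ≠ 0) (h : scal α h0 x = x) :
    α ^ 3 = 1 := by
  have hx1 : x ≠ 1 := by
    rintro rfl
    exact hx one_a
  have h2 := norm_eq_of_scal hx1 h
  have h1 : α ^ 2 / σ α * x.a = x.a := congrArg Heis.a h
  have h3 : α ^ 2 / σ α = 1 := mul_right_cancel₀ hx (h1.trans (one_mul _).symm)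
  have h4 : σ α ≠ 0 := (map_ne_zero σ).mpr h0
  rw [div_eq_one_iff_eq h4] at h3
  calc α ^ 3 = α * α ^ 2 := by ring
    _ = α * σ α := by rw [h3]
    _ = 1 := h2

theorem torus_comm {a b : SUJ σ} (ha : a ∈ torus σ) (hb : b ∈ torus σ) : a * b = b * a := by
  have h := torusHom_injective (σ := σ) (a₁ := ⟨a, ha⟩ * ⟨b, hb⟩) (a₂ := ⟨b, hb⟩ * ⟨a, ha⟩) (by
    rw [map_mul, map_mul, mul_comm])
  exact congrArg Subtype.val h

/-- powers of elements of the torus -/
theorem pow_entry {g : SUJ σ} (hg : g ∈ torus σ) (k : ℕ) : (g ^ k).1.1 0 0 = (g.1.1 0 0) ^ k := by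
  have h := map_pow (torusHom σ) ⟨g, hg⟩ k
  exact h

theorem eq_one_of_entry {g : SUJ σ} (hg : g ∈ torus σ) (h : g.1.1 0 0 = 1) : g = 1 := by
  have h1 : (⟨g, hg⟩ : torus σ) = 1 := torusHom_injective (by
    rw [map_one]
    exact h)
  exact congrArg Subtype.val h1

/-- conjugation by the antidiagonal element -/
theorem not_comm {α : F} {h0 : α ≠ 0} (hx : ∃ x : Heis σ, x ≠ 1) (hα : α * σ α ≠ 1)
    (h : wel σ * tel σ α h0 * (wel σ)⁻¹ * (tel σ α h0)⁻¹ ∈ Subgroup.center (SUJ σ)) : False := by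
  have h1 : σ α ≠ 0 := (map_ne_zero σ).mpr h0
  set β : F := (α * σ α)⁻¹ with hβ
  have hb0 : β ≠ 0 := inv_ne_zero (mul_ne_zero h0 h1)
  have hσβ : σ β = β := by
    rw [hβ, map_inv₀, map_mul, hσ.out, mul_comm]
  have e : wel σ * tel σ α h0 * (wel σ)⁻¹ * (tel σ α h0)⁻¹ = tel σ β hb0 := by
    rw [mul_inv_eq_iff_eq_mul, mul_inv_eq_iff_eq_mul]
    apply Subtype.ext
    apply Subtype.ext
    change (wel σ).1.1 * (tel σ α h0).1.1 = (tel σ β hb0).1.1 * (tel σ α h0).1.1 * (wel σ).1.1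
    rw [tel_val, tel_val, wel_val, hσβ]
    ext i j
    (revert i j; simp only [Jm, Matrix.mul_apply, Fin.sum_univ_three, hβ, h0, h1, _root_.Fin.forall_fin_succ, _root_.Matrix.of_apply, _root_.Matrix.cons_val', _root_.Matrix.cons_val_fin_one, Fin.isValue, _root_.Matrix.cons_val_zero, _root_.Matrix.cons_val_one, _root_.Matrix.cons_val, _root_.mul_inv_rev, _root_.ne_eq, _root_.mul_eq_zero, _root_.inv_eq_zero, _root_.or_self, _root_.not_false_eq_true, _root_.div_self, _root_.inv_inv, _root_.Matrix.cons_mul, _root_.Nat.succ_eq_add_one, Nat.reduceAdd, _root_.Matrix.vecMul_cons, _root_.Matrix.head_cons, _root_.Matrix.smul_cons, _root_.smul_eq_mul, _root_.inv_mul_cancel_right₀, _root_.MulZeroClass.mul_zero, _root_.Matrix.smul_empty, _root_.Matrix.tail_cons, _root_.zero_smul, _root_.Matrix.empty_vecMul, _root_.add_zero, _root_.one_smul, _root_.zero_add, _root_.mul_inv_cancel_right₀, _root_.Matrix.empty_mul, _root_.Equiv.symm_apply_apply,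 _root_.mul_one, _root_.Matrix.cons_val_succ, _root_.forall_const, _root_.MulZeroClass.zero_mul, _root_.one_mul, _root_.and_self, _root_.implies_true])
  rw [e] at h
  obtain ⟨x, hx⟩ := hx
  obtain ⟨γ, hγ0, hγ, -, -, hγx⟩ := exists_scal (tel_mem (σ := σ) β hb0)
  have h2 := norm_eq_of_scal hx (scal_eq_of_center h hγx x)
  have h3 : γ = β := by
    rw [← hγ, tel_val]
    simp
  rw [h3, hσβ] at h2
  have h4 : β = 1 := by
    rcases mul_self_eq_one_iff.1 h2 with h5 | h5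
    · exact h5
    · rw [h5]
      exact CharTwo.neg_eq 1
  apply hα
  rw [hβ, inv_eq_one] at h4
  exact h4

section PSU

variable [Finite F] {n : ℕ}

theorem exists_pi (hn : 1 ≤ n) (hs : ∀ x, σ x = x ^ (2 ^ n)) (hF : Nat.card F = (2 ^ n) ^ 2) :
    ∃ π : SUJ σ →* Cfsg.PSU 3 F (2 ^ n), Function.Surjective π ∧
      ∀ g, π g = 1 ↔ g ∈ Subgroup.center (SUJ σ) := by
  have hq : 1 < 2 ^ n := Nat.one_lt_two_pow (by omega)
  obtain ⟨c, hc⟩ := HermHeis.exists_not_fixed (σ := σ) hq hs hF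
  obtain ⟨T, T', hTT', hT⟩ := exists_T hc
  let e : SUJ σ ≃* Cfsg.SU 3 F (2 ^ n) :=
    ((conjT hTT').subgroupMap (SUJ σ)).trans (MulEquiv.subgroupCongr (SU_eq_map hs hTT' hT))
  refine ⟨(QuotientGroup.mk' (Subgroup.center (Cfsg.SU 3 F (2 ^ n)))).comp e.toMonoidHom,
    (QuotientGroup.mk'_surjective _).comp e.surjective, fun g => ?_⟩
  have h1 : ((QuotientGroup.mk' (Subgroup.center (Cfsg.SU 3 F (2 ^ n)))).comp e.toMonoidHom) g = 1 ↔
      e g ∈ Subgroup.center (Cfsg.SU 3 F (2 ^ n)) := by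
    rw [← QuotientGroup.eq_one_iff]
    exact Iff.rfl
  rw [h1, Subgroup.mem_center_iff, Subgroup.mem_center_iff]
  constructor
  · intro h k
    apply e.injective
    rw [map_mul, map_mul]
    exact h (e k)
  · intro h k
    obtain ⟨k, rfl⟩ := e.surjective k
    rw [← map_mul, ← map_mul, h k]

/-- Characters of defect zero for the primes dividing `q - 1`. -/
theorem hasDZ_aux (hn : 2 ≤ n) (hs : ∀ x, σ x = x ^ (2 ^ n)) (hF : Nat.card F = (2 ^ n) ^ 2)
    {r : ℕ} (hr : r.Prime) (hr1 : r ∣ 2 ^ n - 1) :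
    HasDZ r (Cfsg.PSU 3 F (2 ^ n)) ∧ ∃ y : Cfsg.PSU 3 F (2 ^ n), r ∣ orderOf y ∧ orderOf y ≠ r := by
  classical
  have : Fact r.Prime := ⟨hr⟩
  have hq4 : 4 ≤ 2 ^ n := by
    calc 4 = 2 ^ 2 := by norm_num
      _ ≤ 2 ^ n := Nat.pow_le_pow_right (by norm_num) hn
  have hq : 1 < 2 ^ n := by omega
  have hq2 : 2 ∣ 2 ^ n := dvd_pow_self 2 (by omega)
  obtain ⟨π, hπ, hker⟩ := exists_pi (F := F) (σ := σ) (by omega) hs hF
  obtain ⟨x₀, hx₀⟩ := HermHeis.exists_heis_a (σ := σ) hq hs hF 1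
  have hx : ∃ x : Heis σ, x.a ≠ 0 := ⟨x₀, by rw [hx₀]; exact one_ne_zero⟩
  have hx1 : x₀ ≠ 1 := by
    rintro rfl
    rw [one_a] at hx₀
    exact zero_ne_one hx₀
  have hkB : π.ker ≤ borel σ := by
    intro g hg
    exact center_le_borel hx ((hker g).mp hg)
  have hD := data_map data_SUJ π hπ hkB
  have hw : π (wel σ) * π (wel σ) = 1 := by rw [← map_mul, wel_mul_wel, map_one]
  have hT : ∀ g', g' ∈ (torus σ).map π ↔ (g' ∈ (borel σ).map π ∧
      (π (wel σ))⁻¹ * g' * π (wel σ) ∈ (borel σ).map π) := by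
    intro g'
    constructor
    · rintro ⟨g, hg, rfl⟩
      have := mem_torus.mp hg
      exact ⟨⟨g, this.1, rfl⟩, ⟨_, this.2, by simp only [_root_.map_mul, _root_.map_inv]⟩⟩
    · intro hg'
      obtain ⟨g, rfl⟩ := hπ g'
      obtain ⟨h1, h2⟩ := hg'
      refine ⟨g, mem_torus.mpr ⟨mem_of_map_mem π hkB h1, mem_of_map_mem π hkB ?_⟩, rfl⟩
      simpa only [_root_.map_mul, _root_.map_inv, _root_.Subgroup.mem_map, _root_.Subtype.exists] using h2
  have hc : ∀ a ∈ (torus σ).map π, ∀ b ∈ (torus σ).map π, a * b = b * a := by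
    rintro _ ⟨a, ha, rfl⟩ _ ⟨b, hb, rfl⟩
    rw [← map_mul, torus_comm ha hb, map_mul]
  have hfix : ∀ g ∈ torus σ, ∀ ξ : Heis σ, π g * π (emb σ ξ) = π (emb σ ξ) * π g →
      ∃ (α : F) (h0 : α ≠ 0), g.1.1 0 0 = α ∧ scal α h0 ξ = ξ := by
    intro g hg ξ h
    obtain ⟨α, h0, hα, -, -, hsc⟩ := exists_scal hg
    refine ⟨α, h0, hα, ?_⟩
    have h1 : π (g * emb σ ξ * (emb σ ξ * g)⁻¹) = 1 := by
      rw [map_mul, map_inv, map_mul, map_mul, h, mul_inv_cancel]
    have h2 : g * emb σ ξ * (emb σ ξ * g)⁻¹ = emb σ (scal α h0 ξ * ξ⁻¹) := by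
      rw [hsc ξ, map_mul, map_inv]
      group
    rw [h2, hker] at h1
    have h3 := eq_one_of_mem_center h1
    exact mul_inv_eq_one.1 h3
  have hcardU : Nat.card ((emb σ).range.map π) = (2 ^ n) ^ 3 := by
    have hinj2 : Function.Injective (π.comp (emb σ)) := by
      rw [injective_iff_map_eq_one]
      intro x h
      exact eq_one_of_mem_center ((hker _).mp h)
    have hSr : (π.comp (emb σ)).range = (emb σ).range.map π := by
      rw [MonoidHom.range_comp]
    rw [← hSr, ← card_heis hq hs hF]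
    exact (Nat.card_congr (MonoidHom.ofInjective hinj2).toEquiv).symm
  have hcardF : Nat.card Fˣ = (2 ^ n) ^ 2 - 1 := by
    rw [Nat.card_units, hF]
  have hcardT : Nat.card ((torus σ).map π) ≤ Nat.card ((emb σ).range.map π) := by
    have h1 : Nat.card ((torus σ).map π) ≤ Nat.card (torus σ) :=
      Nat.card_le_card_of_surjective (fun g : torus σ => (⟨π g, ⟨g, g.2, rfl⟩⟩ : (torus σ).map π)) (by
        rintro ⟨_, ⟨g, hg, rfl⟩⟩
        exact ⟨⟨g, hg⟩, rfl⟩)
    have h2 : Nat.card (torus σ) ≤ Nat.card Fˣ := Nat.le_of_dvd Nat.card_pos card_torus_dvd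
    rw [hcardF] at h2
    rw [hcardU]
    have h3 : (2 ^ n) ^ 2 ≤ (2 ^ n) ^ 3 := Nat.pow_le_pow_right (by omega) (by norm_num)
    omega
  -- the generator
  obtain ⟨a, ha⟩ := IsCyclic.exists_generator (α := Fˣ)
  have hord : orderOf a = (2 ^ n) ^ 2 - 1 := by
    rw [orderOf_eq_card_of_forall_mem_zpowers ha, hcardF]
  have ha0 : (a : F) ≠ 0 := a.ne_zero
  have hqq : (2 ^ n) ^ 2 - 1 = (2 ^ n - 1) * (2 ^ n + 1) := by
    obtain ⟨m, hm⟩ : ∃ m, 2 ^ n = m + 1 := ⟨2 ^ n - 1, by omega⟩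
    rw [hm]
    have : (m + 1) ^ 2 = m * (m + 1 + 1) + 1 := by ring
    simp only [Nat.add_sub_cancel]
    omega
  have hnorm : ∀ β : F, β * σ β = β ^ (2 ^ n + 1) := by
    intro β
    rw [hs, pow_succ]
    ring
  have hdvd : ∀ {k : ℕ}, (a : F) ^ k = 1 → (2 ^ n - 1) * (2 ^ n + 1) ∣ k := by
    intro k hk
    rw [← hqq, ← hord]
    apply orderOf_dvd_of_pow_eq_one
    apply Units.ext
    rw [Units.val_pow_eq_pow_val, hk, Units.val_one]
  have hr2 : ¬ r ∣ 2 := by
    intro h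
    have h2 : r = 2 := (Nat.prime_dvd_prime_iff_eq hr Nat.prime_two).1 h
    subst h2
    omega
  constructor
  · refine hasDZ_of_data hD hw hT hc (d := π (tel σ (a : F) ha0)) ⟨_, tel_mem _ _, rfl⟩ ?_ hcardT ?_ ?_
    · intro h
      refine not_comm (σ := σ) (α := (a : F)) (h0 := ha0) ⟨x₀, hx1⟩ ?_ ((hker _).1 ?_)
      · intro h1
        rw [hnorm] at h1
        have h2 := Nat.le_of_dvd (by omega) (hdvd h1)
        have h3 : 3 * (2 ^ n + 1) ≤ (2 ^ n - 1) * (2 ^ n + 1) := Nat.mul_le_mul_right _ (by omega)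
        omega
      · rw [map_mul, map_mul, map_mul, map_inv, map_inv, h]
        group
    · rw [hcardU]
      intro h
      rcases (hr.dvd_mul).1 h with h | h
      · have h1 : r ∣ 2 ^ n := hr.dvd_of_dvd_pow h
        have h2 : r ∣ 2 ^ n - (2 ^ n - 1) := Nat.dvd_sub h1 hr1
        have h3 : 2 ^ n - (2 ^ n - 1) = 1 := by (clear * - hq4; omega)
        rw [h3] at h2
        exact hr.one_lt.ne' (Nat.dvd_one.1 h2)
      · apply hr2
        obtain ⟨m, hm⟩ : ∃ m, 2 ^ n = m + 1 := ⟨2 ^ n - 1, by omega⟩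
        rw [hm] at h hr1
        simp only [Nat.add_sub_cancel] at hr1
        have h1 : (m + 1) ^ 3 + 1 = m * (m ^ 2 + 3 * m + 3) + 2 := by ring
        rw [h1] at h
        exact (Nat.dvd_add_right (hr1.mul_right _)).1 h
    · rintro _ ⟨g, hg, rfl⟩ hx1' ⟨k, hk⟩ _ ⟨_, ⟨ξ, rfl⟩, rfl⟩ hcomm
      obtain ⟨α, h0, hα, hsc⟩ := hfix g hg ξ hcomm
      by_contra hne
      have hξ : ξ ≠ 1 := by
        rintro rfl
        exact hne (by rw [map_one, map_one])
      have h1 := norm_eq_of_scal hξ hsc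
      rw [hnorm] at h1
      have h2 : g ^ (2 ^ n + 1) = 1 := by
        apply eq_one_of_entry ((torus σ).pow_mem hg _)
        rw [pow_entry hg, hα, h1]
      have h3 : orderOf (π g) ∣ 2 ^ n + 1 := by
        apply orderOf_dvd_of_pow_eq_one
        rw [← map_pow, h2, map_one]
      have hk0 : k ≠ 0 := by
        rintro rfl
        rw [pow_zero, orderOf_eq_one_iff] at hk
        exact hx1' hk
      have h4 : r ∣ 2 ^ n + 1 := (dvd_pow_self r hk0).trans (by rw [← hk]; exact h3)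
      apply hr2
      have h5 : r ∣ (2 ^ n + 1) - (2 ^ n - 1) := Nat.dvd_sub h4 hr1
      have h6 : (2 ^ n + 1) - (2 ^ n - 1) = 2 := by omega
      rwa [h6] at h5
  · set g := tel σ (a : F) ha0 with hg
    have hgT : g ∈ torus σ := tel_mem _ _
    set m := orderOf (π g) with hm
    have hmpos : 0 < m := orderOf_pos _
    have hgm : g ^ m ∈ Subgroup.center (SUJ σ) := by
      rw [← hker, map_pow]
      exact pow_orderOf_eq_one _
    obtain ⟨β, hβ0, hβ, -, -, hβx⟩ := exists_scal ((torus σ).pow_mem hgT m)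
    have hβa : β = (a : F) ^ m := by
      rw [← hβ, pow_entry hgT, hg, tel_val]
      simp
    have h1 := norm_eq_of_scal hx1 (scal_eq_of_center hgm hβx x₀)
    have h2 := cube_eq_of_scal (by rw [hx₀]; exact one_ne_zero) (scal_eq_of_center hgm hβx x₀)
    rw [hnorm, hβa, ← pow_mul] at h1
    rw [hβa, ← pow_mul] at h2
    have h3 : 2 ^ n - 1 ∣ m := Nat.dvd_of_mul_dvd_mul_right (by omega) (hdvd h1)
    have h4 := hdvd h2
    refine ⟨π g, hr1.trans h3, fun h => ?_⟩
    have h5 : r ≤ 2 ^ n - 1 := Nat.le_of_dvd (by omega) hr1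
    have h6 := Nat.le_of_dvd (by omega) h4
    have h7 : (2 ^ n - 1) * 5 ≤ (2 ^ n - 1) * (2 ^ n + 1) := Nat.mul_le_mul_left _ (by omega)
    have h8 : m = r := h
    omega

end PSU

/-- Characters of defect zero for the primes dividing `q - 1`, and elements of composite order. -/
theorem hasDZ {F : Type u} [Field F] [Fintype F] {n : ℕ} (hn : 2 ≤ n)
    (hF : Fintype.card F = (2 ^ n) ^ 2) {r : ℕ} (hr : r.Prime) (hr1 : r ∣ 2 ^ n - 1) :
    HasDZ r (Cfsg.PSU 3 F (2 ^ n)) ∧ ∃ y : Cfsg.PSU 3 F (2 ^ n), r ∣ orderOf y ∧ orderOf y ≠ r := by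
  have hF' : Nat.card F = (2 ^ n) ^ 2 := by rw [Nat.card_eq_fintype_card, hF]
  have hchar : CharP F 2 := charP_two_of_card hF'
  have hs : ∀ x, iterateFrobenius F 2 n x = x ^ (2 ^ n) := fun x => iterateFrobenius_def 2 n x
  have hσ : Fact (∀ x, iterateFrobenius F 2 n (iterateFrobenius F 2 n x) = x) := ⟨by
    intro x
    rw [hs, hs, ← pow_mul, ← sq, ← hF]
    exact FiniteField.pow_card x⟩
  exact hasDZ_aux (σ := iterateFrobenius F 2 n) hn hs hF' hr hr1

/-- **The row of `PSU(3, q)`**, `q = 2 ^ n ≥ 4`. -/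
theorem row {F : Type v} [Field F] [Fintype F] {n : ℕ} (hn : 2 ≤ n)
    (hF : Fintype.card F = (2 ^ n) ^ 2) : Row.{u, v} (Cfsg.PSU 3 F (2 ^ n)) := by
  have hq4 : 4 ≤ 2 ^ n := by
    calc 4 = 2 ^ 2 := by norm_num
      _ ≤ 2 ^ n := Nat.pow_le_pow_right (by norm_num) hn
  obtain ⟨r, hr, hr1⟩ := Nat.exists_prime_and_dvd (n := 2 ^ n - 1) (by omega)
  have : Fact r.Prime := ⟨hr⟩
  obtain ⟨h1, y, hy, hy'⟩ := hasDZ hn hF hr hr1
  refine Row.of_dz (p := r) ?_ h1 hy hy'
  rintro rfl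
  have : 2 ∣ 2 ^ n := dvd_pow_self 2 (by omega)
  omega

end Cfsg.Agent.H710.UThree

private theorem dce_f44e0fde9bfc : _root_.True := by
  try have : _root_.True := by simp only [_root_.Cfsg.Agent.H710.UThree.tel.congr_simp]
  try have : _root_.True := by simp only [_root_.Cfsg.Agent.AschCrit.PSUTorus.scal.congr_simp]
  exact _root_.True.intro
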